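import Groth.Agent.EtPBC63.RedFib.SCGenNoeth
import Groth.Agent.FlatDvr.Dvr
import Groth.Agent.UnivOpen.SectionConst
import Groth.Agent.UnivOpen.Criterion
import Groth.Agent.S1324
import Groth.Prelude.Def_FDesc
import Groth.Prelude.Def_EGA43
import Groth.Prelude.Def_MoreMor

/-!
# Section components are stable under generization at geometrically reduced, universally open points
-/

set_option autoImplicit false
set_option linter.style.haveILetI false

universe u

open AlgebraicGeometry CategoryTheory CategoryTheory.Limits TopologicalSpace Topology IsLocalRing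

namespace Groth.Agent.Ega43Sect

/-- The generizations in the generic fibre of a flat point with reduced special fibre form a non-empty
preconnected set. -/
theorem generic_generizations {R : Type u} [CommRing R] [IsDomain R] [IsDiscreteValuationRing R] {X : Scheme.{u}}
    (f : X ⟶ Spec (CommRingCat.of R)) [LocallyOfFiniteType f] (w : ↥(f.fiber (closedPoint R)))
    (hflat : (f.stalkMap (f.fiberι (closedPoint R) w)).hom.Flat)
    (hred : _root_.IsReduced ((f.fiber (closedPoint R)).presheaf.stalk w)) :
    ({v : ↥X | v ⤳ f.fiberι (closedPoint R) w ∧ f v ≠ closedPoint R}).Nonempty ∧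
      _root_.IsPreconnected {v : ↥X | v ⤳ f.fiberι (closedPoint R) w ∧ f v ≠ closedPoint R} := by
  obtain ⟨x, hx⟩ : ∃ x, x = f.fiberι (closedPoint R) w := ⟨_, rfl⟩
  have hfx : f (f.fiberι (closedPoint R) w) = closedPoint R := FlatDvr.fiberι_apply_eq f w
  obtain ⟨hdom, hdvr⟩ := FlatDvr.isDvr_stalk hfx
  let O := (Spec (CommRingCat.of R)).presheaf.stalk (f (f.fiberι (closedPoint R) w))
  let φ : O →+* X.presheaf.stalk (f.fiberι (closedPoint R) w) := (f.stalkMap _).hom
  letI := φ.toAlgebra
  haveI : Module.Flat O (X.presheaf.stalk (f.fiberι (closedPoint R) w)) := hflat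
  obtain ⟨π, hπ⟩ := IsDiscreteValuationRing.exists_irreducible O
  have hm := (IsDiscreteValuationRing.irreducible_iff_uniformizer π).1 hπ
  have hker : RingHom.ker ((f.fiberι (closedPoint R)).stalkMap w).hom = Ideal.span {φ π} := by
    rw [FlatDvr.ker_stalkMap_fiberι]
    show (maximalIdeal O).map φ = _
    rw [hm, Ideal.map_span, Set.image_singleton]
  haveI := hred
  have hred' : _root_.IsReduced (X.presheaf.stalk (f.fiberι (closedPoint R) w) ⧸ Ideal.span {φ π}) := by
    rw [← hker]
    exact isReduced_of_injective _ (RingHom.kerLift_injective _)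
  let T := Localization.Away (φ π)
  let i : PrimeSpectrum T → ↥X :=
    fun p => X.fromSpecStalk (f.fiberι (closedPoint R) w) (PrimeSpectrum.comap (algebraMap _ T) p)
  have hi : Continuous i :=
    (X.fromSpecStalk (f.fiberι (closedPoint R) w)).continuous.comp (PrimeSpectrum.continuous_comap _)
  have hrange : Set.range i = {v : ↥X | v ⤳ f.fiberι (closedPoint R) w ∧ f v ≠ closedPoint R} := by
    have key : ∀ q : PrimeSpectrum (X.presheaf.stalk (f.fiberι (closedPoint R) w)),
        f (X.fromSpecStalk _ q) = closedPoint R ↔ φ π ∈ q.asIdeal := fun q => by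
      rw [UnivOpen.map_fromSpecStalk f (x := f.fiberι (closedPoint R) w) q]
      constructor
      · intro h
        have h1 : PrimeSpectrum.comap φ q = closedPoint O :=
          ((Spec (CommRingCat.of R)).fromSpecStalk (f (f.fiberι (closedPoint R) w))).isEmbedding.injective
            (h.trans (hfx.symm.trans Scheme.fromSpecStalk_closedPoint.symm))
        have h2 : π ∈ (closedPoint O).asIdeal := by
          show π ∈ maximalIdeal O
          rw [hm]
          exact Ideal.mem_span_singleton_self π
        rw [← h1] at h2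
        exact h2
      · intro h
        have h1 : PrimeSpectrum.comap φ q = closedPoint O := by
          refine PrimeSpectrum.ext ((maximalIdeal.isMaximal O).eq_of_le (Ideal.IsPrime.ne_top inferInstance) ?_).symm
          rw [hm, Ideal.span_le, Set.singleton_subset_iff]
          exact h
        exact ((congrArg _ h1).trans Scheme.fromSpecStalk_closedPoint).trans hfx
    have h0 : Set.range (PrimeSpectrum.comap (algebraMap (X.presheaf.stalk (f.fiberι (closedPoint R) w)) T)) =
        (PrimeSpectrum.basicOpen (φ π) : Set _) := PrimeSpectrum.localization_away_comap_range T (φ π)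
    ext v
    constructor
    · rintro ⟨p, rfl⟩
      refine ⟨?_, fun h => ?_⟩
      · exact (Scheme.range_fromSpecStalk).le ⟨_, rfl⟩
      · exact (h0.le ⟨p, rfl⟩) ((key _).1 h)
    · rintro ⟨hv, hfv⟩
      obtain ⟨q, rfl⟩ : v ∈ Set.range (X.fromSpecStalk (f.fiberι (closedPoint R) w)) :=
        (Scheme.range_fromSpecStalk).ge hv
      have hq' : φ π ∉ (show PrimeSpectrum _ from q).asIdeal := fun h => hfv ((key q).2 h)
      obtain ⟨p, hp⟩ := h0.ge hq'
      exact ⟨p, congrArg (X.fromSpecStalk (f.fiberι (closedPoint R) w)).base hp⟩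
  haveI : Nontrivial T := by
    refine not_subsingleton_iff_nontrivial.1 fun hs => ?_
    obtain ⟨⟨_, n, rfl⟩, hn⟩ := (IsLocalization.map_eq_zero_iff (Submonoid.powers (φ π)) T 1).1
      (Subsingleton.elim _ _)
    have hnzd : IsSMulRegular (X.presheaf.stalk (f.fiberι (closedPoint R) w)) (π ^ n) :=
      Module.Flat.isSMulRegular_of_isRegular (isRegular_of_ne_zero (pow_ne_zero n hπ.ne_zero))
    refine one_ne_zero (α := X.presheaf.stalk (f.fiberι (closedPoint R) w)) (hnzd ?_)
    show (π ^ n) • (1 : X.presheaf.stalk _) = (π ^ n) • 0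
    rw [smul_zero, Algebra.smul_def, map_pow]
    exact hn
  haveI : _root_.PreconnectedSpace (PrimeSpectrum T) := preconnectedSpace_iff_clopen.2 fun D hD => by
    obtain ⟨e, he, rfl⟩ := PrimeSpectrum.exists_idempotent_basicOpen_eq_of_isClopen hD
    obtain ⟨a, ha, rfl⟩ := EtPBC63.RedFib.exists_idempotent_lift (D := O) hπ.ne_zero hred' e he
    rcases IsLocalRing.isUnit_or_isUnit_one_sub_self a with hu | hu
    · rw [show a = 1 from hu.mul_left_cancel (ha.trans (mul_one a).symm), map_one, PrimeSpectrum.basicOpen_one]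
      exact Or.inr rfl
    · rw [show a = 0 from hu.mul_left_cancel (by rw [sub_mul, one_mul, ha, sub_self, mul_zero]), map_zero,
        PrimeSpectrum.basicOpen_zero]
      exact Or.inl rfl
  rw [← hrange]
  exact ⟨Set.range_nonempty i, isPreconnected_range hi⟩

/-- Points of a connected component of a locally noetherian scheme share any property invariant
under specialization inside the component. -/
theorem forall_mem_connectedComponent {W : Scheme.{u}} [IsLocallyNoetherian W] {p : ↥W} (P : ↥W → Prop)
    (hP : ∀ a b, a ⤳ b → b ∈ connectedComponent p → (P a ↔ P b)) (hp : P p) {q : ↥W}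
    (hq : q ∈ connectedComponent p) : P q := by
  classical
  have hmem : ∀ {a b : ↥W}, a ⤳ b → b ∈ connectedComponent p → a ∈ connectedComponent p := fun {a b} hab hb => by
    rw [connectedComponent_eq hb]
    exact (isPreconnected_singleton.closure.subset_connectedComponent
      (specializes_iff_mem_closure.1 hab)) (subset_closure rfl)
  have hnear : ∀ z ∈ connectedComponent p, ∃ O : Set ↥W, IsOpen O ∧ z ∈ O ∧
      ∀ z' ∈ O, z' ∈ connectedComponent p → (P z' ↔ P z) := fun z hz => by
    obtain ⟨U, hU, hzU, -⟩ := exists_isAffineOpen_mem_and_subset (x := z) (U := (⊤ : W.Opens)) (by simp)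
    haveI : IsAffine (U : Scheme.{u}) := hU
    haveI : IsLocallyNoetherian (U : Scheme.{u}) := isLocallyNoetherian_of_isOpenImmersion U.ι
    haveI : IsNoetherian (U : Scheme.{u}) := ⟨⟩
    haveI : QuasiSober ↥U := inferInstanceAs (QuasiSober ↥(U : Scheme.{u}))
    let E : Set (Set ↥U) := {Z ∈ irreducibleComponents ↥U | (⟨z, hzU⟩ : ↥U) ∉ Z}
    have hcl : IsClosed (⋃ Z ∈ E, Z) := ((finite_irreducibleComponents_of_isNoetherian (X := (U : Scheme.{u}))).subset
      fun _ h => h.1).isClosed_biUnion fun Z hZ => isClosed_of_mem_irreducibleComponents Z hZ.1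
    refine ⟨Subtype.val '' (⋃ Z ∈ E, Z)ᶜ, U.isOpen.isOpenMap_subtype_val _ hcl.isOpen_compl,
      ⟨⟨z, hzU⟩, fun h => ?_, rfl⟩, ?_⟩
    · obtain ⟨Z, hZ, hzZ⟩ := Set.mem_iUnion₂.1 h
      exact hZ.2 hzZ
    rintro _ ⟨z', hz', rfl⟩ hz'C
    have hcomp : irreducibleComponent z' ∈ irreducibleComponents ↥U :=
      irreducibleComponent_mem_irreducibleComponents z'
    have hzZ : (⟨z, hzU⟩ : ↥U) ∈ irreducibleComponent z' := by
      by_contra h
      exact hz' (Set.mem_biUnion (show irreducibleComponent z' ∈ E from ⟨hcomp, h⟩) mem_irreducibleComponent)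
    obtain ⟨ξ, hξ⟩ : ∃ ξ, IsGenericPoint ξ (irreducibleComponent z') :=
      ⟨_, isIrreducible_irreducibleComponent.isGenericPoint_genericPoint isClosed_irreducibleComponent⟩
    have h1 : (ξ : ↥U).1 ⤳ z'.1 := (hξ.specializes mem_irreducibleComponent).map continuous_subtype_val
    have h2 : (ξ : ↥U).1 ⤳ z := (hξ.specializes hzZ).map continuous_subtype_val
    exact (hP _ _ h1 hz'C).symm.trans (hP _ _ h2 hz)
  have hclopen : IsClopen (Subtype.val ⁻¹' {z | P z} : Set ↥(connectedComponent p)) := by
    constructor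
    · rw [← isOpen_compl_iff, isOpen_iff_forall_mem_open]
      rintro ⟨z, hz⟩ hnz
      obtain ⟨O, hO, hzO, h⟩ := hnear z hz
      exact ⟨Subtype.val ⁻¹' O, fun w hw hPw => hnz ((h _ hw w.2).1 hPw), hO.preimage continuous_subtype_val, hzO⟩
    · rw [isOpen_iff_forall_mem_open]
      rintro ⟨z, hz⟩ hPz
      obtain ⟨O, hO, hzO, h⟩ := hnear z hz
      exact ⟨Subtype.val ⁻¹' O, fun w hw => (h _ hw w.2).2 hPz, hO.preimage continuous_subtype_val, hzO⟩
  haveI : _root_.PreconnectedSpace ↥(connectedComponent p) :=
    isPreconnected_iff_preconnectedSpace.1 isPreconnected_connectedComponent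
  have := isPreconnected_univ.subset_isClopen hclopen ⟨⟨p, mem_connectedComponent⟩, trivial, hp⟩
    (Set.mem_univ (⟨q, hq⟩ : ↥(connectedComponent p)))
  exact this

/-- The case of a discrete valuation ring. -/
theorem mem_sectionComponents_of_dvr {R : Type u} [CommRing R] [IsDomain R] [IsDiscreteValuationRing R] {X : Scheme.{u}}
    (f : X ⟶ Spec (CommRingCat.of R)) [LocallyOfFiniteType f] (σ : Spec (CommRingCat.of R) ⟶ X) (hσ : σ ≫ f = 𝟙 _)
    (hC : ∀ w : ↥(f.fiber (closedPoint R)),
      f.fiberι (closedPoint R) w ∈ connectedComponentIn (f.base ⁻¹' {closedPoint R}) (σ.base (closedPoint R)) →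
      (f.stalkMap (f.fiberι (closedPoint R) w)).hom.Flat ∧
        _root_.IsReduced ((f.fiber (closedPoint R)).presheaf.stalk w))
    {x z : ↥X} (hxz : x ⤳ z) (hfz : f z = closedPoint R) (hfx : f x ≠ closedPoint R)
    (hz : z ∈ MoreMor.sectionComponents f σ) : x ∈ MoreMor.sectionComponents f σ := by
  haveI : IsLocallyNoetherian (f.fiber (closedPoint R)) :=
    LocallyOfFiniteType.isLocallyNoetherian (f.fiberToSpecResidueField (closedPoint R))
  have hσf : ∀ y, f.base (σ.base y) = y := fun y => congrArg (fun m => m.base y) hσ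
  let e := f.fiberHomeo (closedPoint R)
  let p := e.symm ⟨σ.base (closedPoint R), hσf _⟩
  have hcc : ∀ w, f.fiberι (closedPoint R) w ∈
      connectedComponentIn (f.base ⁻¹' {closedPoint R}) (σ.base (closedPoint R)) ↔ w ∈ connectedComponent p := fun w => by
    have h2 : e '' connectedComponent p = connectedComponent (e p) := by
      have := e.image_connectedComponentIn (Set.mem_univ p)
      rwa [Set.image_univ, e.surjective.range_eq, connectedComponentIn_univ, connectedComponentIn_univ] at this
    rw [connectedComponentIn_eq_image (show σ.base (closedPoint R) ∈ f.base ⁻¹' {closedPoint R} from hσf _),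
      show (⟨σ.base (closedPoint R), hσf _⟩ : ↑(f.base ⁻¹' {closedPoint R})) = e p from (e.apply_symm_apply _).symm,
      ← h2]
    constructor
    · rintro ⟨_, ⟨w', hw', rfl⟩, hw⟩
      obtain rfl : w' = w := (f.fiberι (closedPoint R)).isEmbedding.injective hw
      exact hw'
    · exact fun h => ⟨e w, ⟨w, h, rfl⟩, rfl⟩
  have hgen : ∀ v : ↥X, f v ≠ closedPoint R → f v = f x := fun v hv => by
    have hbot : ∀ q : PrimeSpectrum R, q ≠ closedPoint R → q.asIdeal = ⊥ := fun q hq => by
      by_contra hb
      exact hq (PrimeSpectrum.ext (IsLocalRing.eq_maximalIdeal (q.isPrime.isMaximal hb)))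
    exact PrimeSpectrum.ext ((hbot _ hv).trans (hbot _ hfx).symm)
  let G : ↥(f.fiber (closedPoint R)) → Set ↥X := fun w => {v | v ⤳ f.fiberι (closedPoint R) w ∧ f v ≠ closedPoint R}
  let Q := connectedComponentIn (f.base ⁻¹' {f x}) (σ.base (f x))
  have hG : ∀ w ∈ connectedComponent p, (G w).Nonempty ∧ _root_.IsPreconnected (G w) := fun w hw =>
    generic_generizations f w (hC w ((hcc w).2 hw)).1 (hC w ((hcc w).2 hw)).2
  have hGQ : ∀ w ∈ connectedComponent p, (G w ∩ Q).Nonempty → G w ⊆ Q := fun w hw ⟨v, hv, hvQ⟩ => by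
    show G w ⊆ connectedComponentIn (f.base ⁻¹' {f x}) (σ.base (f x))
    rw [connectedComponentIn_eq hvQ]
    exact (hG w hw).2.subset_connectedComponentIn hv fun u hu => hgen u hu.2
  have hinv : ∀ a b, a ⤳ b → b ∈ connectedComponent p → (G a ⊆ Q ↔ G b ⊆ Q) := fun a b hab hb => by
    have ha : a ∈ connectedComponent p := by
      rw [connectedComponent_eq hb]
      exact (isPreconnected_singleton.closure.subset_connectedComponent
        (specializes_iff_mem_closure.1 hab)) (subset_closure rfl)
    have hsub : G a ⊆ G b := fun v hv => ⟨hv.1.trans (hab.map (f.fiberι (closedPoint R)).continuous), hv.2⟩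
    refine ⟨fun h => hGQ b hb ?_, fun h => hsub.trans h⟩
    obtain ⟨v, hv⟩ := (hG a ha).1
    exact ⟨v, hsub hv, h hv⟩
  have hp : G p ⊆ Q := by
    refine hGQ p mem_connectedComponent ⟨σ.base (f x), ⟨?_, by rw [hσf]; exact hfx⟩,
      mem_connectedComponentIn (hσf _)⟩
    rw [f.fiberι_fiberHomeo_symm]
    have : f x ⤳ f z := hxz.map f.continuous
    rw [hfz] at this
    exact this.map σ.continuous
  obtain ⟨w, hw⟩ : z ∈ Set.range (f.fiberι (closedPoint R)) := (f.range_fiberι _).ge hfz
  have hwC : w ∈ connectedComponent p := (hcc w).1 (by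
    have h : z ∈ connectedComponentIn (f.base ⁻¹' {f.base z}) (σ.base (f.base z)) := hz
    rw [hw]
    rwa [show f.base z = closedPoint R from hfz] at h)
  exact forall_mem_connectedComponent (fun a => G a ⊆ Q) hinv hp hwC ⟨hw ▸ hxz, hfx⟩

/-- Section components are stable under generization from a component of geometrically reduced universally open
points. -/
theorem mem_sectionComponents_of_specializes {X Y : Scheme.{u}} [IsLocallyNoetherian Y] (f : X ⟶ Y)
    [LocallyOfFiniteType f] (s : Y ⟶ X) (hs : s ≫ f = 𝟙 Y) {x z : ↥X} (hxz : x ⤳ z)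
    (hC : ∀ v ∈ connectedComponentIn (f.base ⁻¹' {f.base z}) (s.base (f.base z)), EGA43.IsUnivOpenAt f v)
    (hR : ∀ a : ↥(f.fiber (f.base z)),
      f.fiberι (f.base z) a ∈ connectedComponentIn (f.base ⁻¹' {f.base z}) (s.base (f.base z)) →
        FBase.IsGeomReducedAt (f.fiberToSpecResidueField (f.base z)) a)
    (hz : z ∈ MoreMor.sectionComponents f s) : x ∈ MoreMor.sectionComponents f s := by
  haveI := LocallyOfFiniteType.isLocallyNoetherian f
  by_cases hy : f.base x = f.base z
  · have h2 : z ∈ closure {x} := specializes_iff_mem_closure.1 hxz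
    have hsub : closure {x} ∩ f.base ⁻¹' {f.base z} ⊆ f.base ⁻¹' {f.base z} := Set.inter_subset_right
    show x ∈ connectedComponentIn (f.base ⁻¹' {f.base x}) (s.base (f.base x))
    rw [hy, connectedComponentIn_eq hz]
    exact (isPreconnected_singleton.subset_closure (t := closure {x} ∩ f.base ⁻¹' {f.base z})
      (Set.singleton_subset_iff.2 ⟨subset_closure rfl, hy⟩) Set.inter_subset_left).subset_connectedComponentIn
      ⟨h2, rfl⟩ hsub ⟨subset_closure rfl, hy⟩
  obtain ⟨R, _, _, _, τ, hτc, hτg⟩ := UnivOpen.exists_dvr_lift hxz (fun h => hy (by rw [h]))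
  let q := pullback.snd f (τ ≫ f)
  let p := pullback.fst f (τ ≫ f)
  let σ : Spec (CommRingCat.of R) ⟶ pullback f (τ ≫ f) :=
    pullback.lift ((τ ≫ f) ≫ s) (𝟙 _) (by rw [Category.assoc, hs, Category.comp_id, Category.id_comp])
  let ρ : Spec (CommRingCat.of R) ⟶ pullback f (τ ≫ f) := pullback.lift τ (𝟙 _) (Category.id_comp _).symm
  have hsc := S1324.result f s hs q p (τ ≫ f) (IsPullback.of_hasPullback _ _) σ (pullback.lift_snd _ _ _)
    (pullback.lift_fst _ _ _)
  have hpρ : ∀ t, p.base (ρ.base t) = τ.base t := fun t =>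
    congrArg (fun m => m.base t) (pullback.lift_fst τ (𝟙 _) (Category.id_comp _).symm)
  have hqρ : ∀ t, q.base (ρ.base t) = t := fun t =>
    congrArg (fun m => m.base t) (pullback.lift_snd τ (𝟙 _) (Category.id_comp _).symm)
  obtain ⟨η, hη⟩ : ∃ η : Spec (CommRingCat.of R), η ≠ closedPoint R :=
    ⟨(⟨⊥, Ideal.isPrime_bot⟩ : PrimeSpectrum R), fun h =>
      IsDiscreteValuationRing.not_a_field R (congrArg PrimeSpectrum.asIdeal h).symm⟩
  suffices h : ρ.base η ∈ MoreMor.sectionComponents q σ by
    rw [hsc] at h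
    rw [← hτg η hη, ← hpρ]
    exact h
  have hzc : ρ.base (closedPoint R) ∈ MoreMor.sectionComponents q σ := by
    rw [hsc]
    show p.base (ρ.base (closedPoint R)) ∈ MoreMor.sectionComponents f s
    rw [hpρ, hτc]
    exact hz
  have hspec : ρ.base η ⤳ ρ.base (closedPoint R) :=
    ((PrimeSpectrum.le_iff_specializes (η : PrimeSpectrum R) (closedPoint R)).1
      (IsLocalRing.le_maximalIdeal (η : PrimeSpectrum R).isPrime.ne_top)).map ρ.continuous
  have hyc : (τ ≫ f).base (closedPoint R) = f.base z := by
    show f.base (τ.base (closedPoint R)) = _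
    rw [hτc]
  have hmap : ∀ v, v ∈ MoreMor.sectionComponents q σ → q.base v = closedPoint R →
      p.base v ∈ connectedComponentIn (f.base ⁻¹' {f.base z}) (s.base (f.base z)) := fun v hv hqv => by
    rw [hsc] at hv
    have h : p.base v ∈ connectedComponentIn (f.base ⁻¹' {f.base (p.base v)}) (s.base (f.base (p.base v))) := hv
    rwa [show f.base (p.base v) = f.base z from
      ((congrArg (fun m : pullback f (τ ≫ f) ⟶ Y => m.base v) pullback.condition).trans
        (show (τ ≫ f).base (q.base v) = f.base z by rw [hqv]; exact hyc))] at h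
  refine mem_sectionComponents_of_dvr q σ (pullback.lift_snd _ _ _) (fun w hw => ?_) hspec (hqρ _)
    (by rw [hqρ]; exact hη) hzc
  have hqw : q.base (q.fiberι (closedPoint R) w) = closedPoint R := FlatDvr.fiberι_apply_eq q w
  have hw' : q.fiberι (closedPoint R) w ∈ MoreMor.sectionComponents q σ := by
    show _ ∈ connectedComponentIn (q.base ⁻¹' {q.base (q.fiberι (closedPoint R) w)})
      (σ.base (q.base (q.fiberι (closedPoint R) w)))
    rw [hqw]
    exact hw
  have hpw := hmap _ hw' hqw
  obtain ⟨a, ha⟩ : p.base (q.fiberι (closedPoint R) w) ∈ Set.range (f.fiberι (f.base z)) :=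
    (f.range_fiberι _).ge (connectedComponentIn_subset _ _ hpw)
  have hred := UnivOpen.isReduced_fibre_baseChange f (τ ≫ f) hyc a (hR a (by
    rw [ha]; exact hpw)) w ha.symm
  refine ⟨FlatDvr.flat_stalkMap q rfl w (fun v hv hqv _ => ?_) hred, hred⟩
  have hqv' : q.base v = closedPoint R := hqv.trans hqw
  have hvw : q.fiberι (closedPoint R) w ∈ closure {v} := specializes_iff_mem_closure.1 hv
  have hvC : v ∈ MoreMor.sectionComponents q σ := by
    show v ∈ connectedComponentIn (q.base ⁻¹' {q.base v}) (σ.base (q.base v))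
    rw [hqv']
    show v ∈ connectedComponentIn (q.base ⁻¹' {closedPoint R}) (σ.base (closedPoint R))
    refine (connectedComponentIn_eq hw).symm ▸ ?_
    exact (isPreconnected_singleton.subset_closure (t := closure {v} ∩ q.base ⁻¹' {closedPoint R})
      (Set.singleton_subset_iff.2 ⟨subset_closure rfl, hqv'⟩) Set.inter_subset_left).subset_connectedComponentIn
      ⟨hvw, hqw⟩ Set.inter_subset_right ⟨subset_closure rfl, hqv'⟩
  exact hC _ (hmap v hvC hqv') _ (τ ≫ f) v rfl

end Groth.Agent.Ega43Sect
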