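import Groth.Agent.Ega43Sect.SectConstr
import Groth.Agent.S2075

/-!
# Flat noetherian models of flat morphisms of finite presentation with a section
-/

set_option autoImplicit false
set_option linter.style.haveILetI false

universe u

open AlgebraicGeometry CategoryTheory CategoryTheory.Limits Groth.Agent.SpecLib Groth.Agent.EGA41Lib

namespace Groth.Agent.Ega43Sect

set_option maxHeartbeats 1600000 in
/-- A flat morphism of finite presentation with a section over an affine scheme has a flat noetherian model. -/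
theorem exists_flat_model_section {X Y : Scheme.{u}} [IsAffine Y] (f : X ⟶ Y) (s : Y ⟶ X) (hs : s ≫ f = 𝟙 Y)
    [Flat f] [LocallyOfFinitePresentation f] [QuasiCompact f] [QuasiSeparated f] :
    ∃ (Y₁ X₁ : Scheme.{u}) (f₁ : X₁ ⟶ Y₁) (s₁ : Y₁ ⟶ X₁) (π : Y ⟶ Y₁) (g' : X ⟶ X₁),
      IsNoetherian Y₁ ∧ IsAffine Y₁ ∧ LocallyOfFiniteType f₁ ∧ QuasiCompact f₁ ∧ QuasiSeparated f₁ ∧ Flat f₁ ∧
      s₁ ≫ f₁ = 𝟙 Y₁ ∧ IsPullback g' f f₁ π ∧ s ≫ g' = π ≫ s₁ := by
  obtain ⟨I, _, _, D, c, hc, e, hA, hN⟩ := ConsPropLib.exists_noetherian_limit Y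
  haveI := hA
  haveI : ∀ {i j : I} (φ : i ⟶ j), IsAffineHom (D.map φ) := fun φ => isAffineHom_of_isAffine _
  haveI : ∀ (i j : I) (φ : i ⟶ j), IsAffineHom (D.map φ) := fun i j φ => isAffineHom_of_isAffine _
  have hfs : (e.hom ≫ s) ≫ f ≫ e.inv = 𝟙 c.pt := by simp [reassoc_of% hs]
  obtain ⟨i, Xi, fi, g, hm⟩ := ConsPropLib.hasModel hc (f ≫ e.inv)
  haveI := hm.lfp; haveI := hm.qc; haveI := hm.qs
  haveI := hm.compactSpace; haveI := hm.quasiSeparatedSpace
  obtain ⟨j, φ, sj, tX, tY, hsj, hX1, hX2, hY1, hY2, hcomm⟩ :=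
    Groth.Agent.S9218.result D c hc i (𝟙 (D.obj i)) fi (c.π.app i) (𝟙 c.pt)
      IsPullback.of_id_snd g (f ≫ e.inv) hm.sq (e.hom ≫ s) hfs
  have hj := hm.pushed φ
  haveI := hj.lfp; haveI := hj.qc; haveI := hj.qs
  haveI := hj.compactSpace; haveI := hj.quasiSeparatedSpace
  have htY : tY = hm.push φ :=
    pullback.hom_ext (hY1.trans (hm.push_fst φ).symm) (hY2.trans (hm.push_snd φ).symm)
  let σ : D.obj j ⟶ pullback fi (D.map φ) :=
    pullback.lift (D.map φ) (𝟙 (D.obj j)) (by simp) ≫ sj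
  have hσ : σ ≫ pullback.snd fi (D.map φ) = 𝟙 _ := by
    rw [Category.assoc, hsj, pullback.lift_snd]
  have htX : tX = c.π.app j ≫ pullback.lift (D.map φ) (𝟙 (D.obj j)) (by simp) := by
    apply pullback.hom_ext
    · rw [hX1, Category.assoc, pullback.lift_fst, c.w]
    · rw [hX2, Category.assoc, pullback.lift_snd, Category.comp_id]
      exact Category.id_comp _
  have hσc : c.π.app j ≫ σ = (e.hom ≫ s) ≫ hm.push φ := by
    rw [← htY, ← hcomm, htX, Category.assoc]
  haveI : Flat (f ≫ e.inv) := inferInstance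
  obtain ⟨k, ψ, Xk, Yk, fk, gk, pY, pX, hYk, hXk, hflat⟩ :=
    Groth.Agent.S2075.result D c hc j (pullback.snd fi (D.map φ)) (𝟙 (D.obj j)) (f ≫ e.inv) (𝟙 c.pt)
      (c.π.app j) (hm.push φ) IsPullback.of_id_snd hj.sq
  haveI := hflat
  haveI : IsIso gk := hYk.isIso_snd_of_isIso
  have hsq : IsPullback pX (fk ≫ gk) (pullback.snd fi (D.map φ)) (D.map ψ) := by
    have h := hXk.paste_vert hYk
    rwa [Category.comp_id] at h
  haveI : LocallyOfFinitePresentation (fk ≫ gk) := MorphismProperty.of_isPullback hsq.flip.flip hj.lfp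
  haveI : QuasiCompact (fk ≫ gk) := MorphismProperty.of_isPullback hsq hj.qc
  haveI : QuasiSeparated (fk ≫ gk) := MorphismProperty.of_isPullback hsq hj.qs
  let σk : D.obj k ⟶ Xk := hsq.lift (D.map ψ ≫ σ) (𝟙 _) (by
    rw [Category.assoc, hσ, Category.comp_id, Category.id_comp])
  let g' : X ⟶ Xk := hsq.lift (hm.push φ) ((f ≫ e.inv) ≫ c.π.app k) (by
    rw [hm.push_snd, Category.assoc (f ≫ e.inv), c.w])
  have hg : IsPullback g' (f ≫ e.inv) (fk ≫ gk) (c.π.app k) := by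
    refine IsPullback.of_right ?_ (hsq.lift_snd _ _ _) hsq
    rw [hsq.lift_fst, c.w]
    exact hj.sq
  refine ⟨D.obj k, Xk, fk ≫ gk, σk, e.inv ≫ c.π.app k, g', hN k, hA k, inferInstance, inferInstance, inferInstance,
    inferInstance, hsq.lift_snd _ _ _,
    hg.of_iso (Iso.refl _) (Iso.refl _) e (Iso.refl _) (by simp) (by simp) (by simp) (by simp), ?_⟩
  refine hsq.hom_ext ?_ ?_
  · rw [Category.assoc, Category.assoc, hsq.lift_fst, hsq.lift_fst, Category.assoc, ← Category.assoc (c.π.app k),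
      c.w, hσc]
    simp
  · rw [Category.assoc, Category.assoc, hsq.lift_snd, hsq.lift_snd, Category.comp_id, Category.assoc,
      reassoc_of% hs]

end Groth.Agent.Ega43Sect
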