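import Groth.Agent.Ega43Sect.SectClopen
import Groth.Agent.ConsPropLib.Loci
import Groth.Agent.S2396

/-!
# Constructibility of the union of the section components
-/

set_option autoImplicit false
set_option linter.style.haveILetI false

universe u

open AlgebraicGeometry CategoryTheory CategoryTheory.Limits TopologicalSpace Topology

namespace Groth.Agent.Ega43Sect

/-- The noetherian case. -/
theorem isConstructible_sectionComponents {X Y : Scheme.{u}} [IsNoetherian Y] (f : X ⟶ Y) [LocallyOfFiniteType f]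
    [QuasiCompact f] (s : Y ⟶ X) (hs : s ≫ f = 𝟙 Y) : IsConstructible (MoreMor.sectionComponents f s) := by
  haveI : IsLocallyNoetherian X := LocallyOfFiniteType.isLocallyNoetherian f
  haveI : CompactSpace ↥X := QuasiCompact.compactSpace_of_compactSpace f
  haveI : IsNoetherian X := {}
  refine (S2396.result _).2 fun T hT hirr => ?_
  obtain ⟨V, hVsub, hyV, hVopen, hclopen⟩ := exists_clopen_in_closure f s hs (f hirr.genericPoint)
  obtain ⟨W, hW, hWV⟩ := isOpen_induced_iff.1 hVopen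
  have hξ : IsGenericPoint hirr.genericPoint T := hirr.isGenericPoint_genericPoint hT
  have hTW : ∀ x ∈ T, f x ∈ W → f x ∈ V := fun x hx hxW => by
    have h1 : f x ∈ closure {f hirr.genericPoint} :=
      ((hξ.specializes hx).map f.continuous).mem_closure
    have : (⟨f x, h1⟩ : ↑(closure ({f hirr.genericPoint} : Set ↥Y))) ∈ Subtype.val ⁻¹' V := hWV ▸ hxW
    exact this
  have hξW : f hirr.genericPoint ∈ W := by
    have h1 : (⟨f hirr.genericPoint, subset_closure rfl⟩ : ↑(closure ({f hirr.genericPoint} : Set ↥Y))) ∈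
      Subtype.val ⁻¹' W := hWV.symm ▸ hyV
    exact h1
  let U := f.base ⁻¹' W
  have hU : IsOpen U := hW.preimage f.continuous
  have hne : (U ∩ T).Nonempty := ⟨hirr.genericPoint, hξW, hξ.mem⟩
  have hsub : U ∩ T ⊆ f.base ⁻¹' V := fun x hx => hTW x hx.2 hx.1
  have hpre : _root_.IsPreconnected (U ∩ T) := by
    rw [Set.inter_comm]
    exact IsPreirreducible.isPreconnected (fun A B hA hB ⟨a, ⟨haT, haU⟩, haA⟩ ⟨b, ⟨hbT, hbU⟩, hbB⟩ => by
      obtain ⟨z, hzT, ⟨hzU, hzA⟩, ⟨-, hzB⟩⟩ := hirr.2 (U ∩ A) (U ∩ B) (hU.inter hA) (hU.inter hB)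
        ⟨a, haT, haU, haA⟩ ⟨b, hbT, hbU, hbB⟩
      exact ⟨z, ⟨hzT, hzU⟩, hzA, hzB⟩)
  have hpre' : _root_.IsPreconnected (Subtype.val ⁻¹' (U ∩ T) : Set ↑(f.base ⁻¹' V)) := by
    refine Topology.IsInducing.subtypeVal.isPreconnected_image.1 ?_
    rwa [Subtype.image_preimage_coe, Set.inter_eq_right.2 hsub]
  by_cases hE : (U ∩ T ∩ MoreMor.sectionComponents f s).Nonempty
  · obtain ⟨x, hx, hxE⟩ := hE
    refine Or.inr ⟨U, hU, hne, fun z hz => ?_⟩
    exact hpre'.subset_isClopen hclopen ⟨⟨x, hsub hx⟩, hx, hxE⟩ (show (⟨z, hsub hz⟩ : ↑(f.base ⁻¹' V)) ∈ _ from hz)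
  · left
    haveI : IrreducibleSpace ↥T := Subtype.irreducibleSpace hirr
    refine Set.eq_empty_iff_forall_notMem.2 fun z hz => ?_
    have hUd : Dense (Subtype.val ⁻¹' U : Set ↥T) :=
      (hU.preimage continuous_subtype_val).dense ⟨⟨hirr.genericPoint, hξ.mem⟩, hξW⟩
    obtain ⟨w, hw1, hw2⟩ := hUd.inter_open_nonempty _ isOpen_interior ⟨z, hz⟩
    have hw3 : w ∈ closure (Subtype.val ⁻¹' MoreMor.sectionComponents f s : Set ↥T) := interior_subset hw1
    obtain ⟨v, hv1, hv2⟩ := mem_closure_iff.1 hw3 _ (hU.preimage continuous_subtype_val) hw2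
    exact hE ⟨v.1, ⟨hv1, v.2⟩, hv2⟩

set_option maxHeartbeats 800000 in
/-- A morphism of finite presentation with a section over an affine scheme comes from a noetherian one. -/
theorem exists_model_section {X Y : Scheme.{u}} [IsAffine Y] (f : X ⟶ Y) (s : Y ⟶ X) (hs : s ≫ f = 𝟙 Y)
    [LocallyOfFinitePresentation f] [QuasiCompact f] [QuasiSeparated f] :
    ∃ (Y₁ X₁ : Scheme.{u}) (f₁ : X₁ ⟶ Y₁) (s₁ : Y₁ ⟶ X₁) (π : Y ⟶ Y₁) (g' : X ⟶ X₁),
      IsNoetherian Y₁ ∧ LocallyOfFiniteType f₁ ∧ QuasiCompact f₁ ∧ s₁ ≫ f₁ = 𝟙 Y₁ ∧ IsPullback g' f f₁ π ∧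
      s ≫ g' = π ≫ s₁ := by
  haveI : LocallyOfFinitePresentation (s ≫ f) := by rw [hs]; infer_instance
  haveI : QuasiCompact (s ≫ f) := by rw [hs]; infer_instance
  haveI : QuasiSeparated (s ≫ f) := by rw [hs]; infer_instance
  obtain ⟨S₀, Y₁, X₀, π₀, t, g₀, qY, qX, hS, -, hlft, hqc, hlft', hqc', sqX, sqY⟩ :=
    ConsPropLib.exists_model_mor s f
  haveI := hlft; haveI := hqc; haveI := hlft'; haveI := hqc'; haveI := hS
  haveI : IsLocallyNoetherian Y₁ := LocallyOfFiniteType.isLocallyNoetherian (t ≫ g₀)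
  haveI : CompactSpace ↥Y₁ := QuasiCompact.compactSpace_of_compactSpace (t ≫ g₀)
  let g' : X ⟶ pullback g₀ (t ≫ g₀) := pullback.lift qX (f ≫ qY) (by
    rw [sqX.w, Category.assoc, reassoc_of% sqY.w, sqX.w, reassoc_of% hs])
  have hbig : IsPullback (g' ≫ pullback.fst g₀ (t ≫ g₀)) f g₀ (qY ≫ t ≫ g₀) := by
    rw [pullback.lift_fst]
    have : qY ≫ t ≫ g₀ = π₀ := by rw [reassoc_of% sqY.w, sqX.w, reassoc_of% hs]
    rw [this]
    exact sqX
  have hsq : IsPullback g' f (pullback.snd g₀ (t ≫ g₀)) qY :=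
    IsPullback.of_right hbig (pullback.lift_snd _ _ _) (IsPullback.of_hasPullback _ _)
  refine ⟨Y₁, _, pullback.snd g₀ (t ≫ g₀), pullback.lift t (𝟙 Y₁) (Category.id_comp _).symm, qY, g', {}, inferInstance,
    inferInstance, pullback.lift_snd _ _ _, hsq, ?_⟩
  apply pullback.hom_ext
  · rw [Category.assoc, Category.assoc, pullback.lift_fst, pullback.lift_fst, sqY.w]
  · rw [Category.assoc, Category.assoc, pullback.lift_snd, pullback.lift_snd, Category.comp_id, reassoc_of% hs]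

/-- Over an affine base the union of the section components is constructible. -/
theorem isConstructible_sectionComponents_of_isAffine {X Y : Scheme.{u}} [IsAffine Y] (f : X ⟶ Y) (s : Y ⟶ X)
    (hs : s ≫ f = 𝟙 Y) [LocallyOfFinitePresentation f] [QuasiCompact f] [QuasiSeparated f] :
    IsConstructible (MoreMor.sectionComponents f s) := by
  obtain ⟨Y₁, X₁, f₁, s₁, π, g', hN, h1, h2, hs₁, hsq, hs'⟩ := exists_model_section f s hs
  haveI := hN; haveI := h1; haveI := h2
  rw [S1324.result f₁ s₁ hs₁ f g' π hsq s hs hs']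
  exact g'.isConstructible_preimage (isConstructible_sectionComponents f₁ s₁ hs₁)

/-- The union of the section components is locally constructible. -/
theorem isLocallyConstructible_sectionComponents {X Y : Scheme.{u}} (f : X ⟶ Y) (s : Y ⟶ X) (hs : s ≫ f = 𝟙 Y)
    [LocallyOfFinitePresentation f] [QuasiCompact f] [QuasiSeparated f] :
    IsLocallyConstructible (MoreMor.sectionComponents f s) := fun x => by
  obtain ⟨V, hV, hxV, -⟩ := exists_isAffineOpen_mem_and_subset (x := f x) (U := (⊤ : Y.Opens)) (by simp)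
  haveI : IsAffine (V : Scheme.{u}) := hV
  have hsq := (isPullback_morphismRestrict f V).flip
  let s' : (V : Scheme.{u}) ⟶ (f ⁻¹ᵁ V : Scheme.{u}) := hsq.lift (V.ι ≫ s) (𝟙 _)
    (by rw [Category.assoc, hs, Category.comp_id, Category.id_comp])
  haveI : LocallyOfFinitePresentation (f ∣_ V) := MorphismProperty.of_isPullback hsq ‹_›
  haveI : QuasiCompact (f ∣_ V) := MorphismProperty.of_isPullback hsq ‹_›
  haveI : QuasiSeparated (f ∣_ V) := MorphismProperty.of_isPullback hsq ‹_›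
  have h := isConstructible_sectionComponents_of_isAffine (f ∣_ V) s' (hsq.lift_snd _ _ _)
  rw [S1324.result f s hs (f ∣_ V) (f ⁻¹ᵁ V).ι V.ι hsq s' (hsq.lift_snd _ _ _) (hsq.lift_fst _ _ _)] at h
  exact ⟨(f ⁻¹ᵁ V : Set ↥X), (f ⁻¹ᵁ V).isOpen.mem_nhds hxV, (f ⁻¹ᵁ V).isOpen, h⟩

end Groth.Agent.Ega43Sect
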