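import Groth.Agent.Ega43Sect.DvrGen
import Groth.Agent.Ega43Sect.SectConstr
import Groth.Agent.Ega43Sect.FlatModel
import Groth.Agent.GeomRedFlat5.Inv
import Groth.Agent.S3403
import Groth.Prelude.Def_ProCons

/-!
# The interior of the union of the section components
-/

set_option autoImplicit false
set_option linter.style.haveILetI false

universe u

open AlgebraicGeometry CategoryTheory CategoryTheory.Limits TopologicalSpace Topology

namespace Groth.Agent.Ega43Sect

variable {X Y : Scheme.{u}}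

/-- Geometric reducedness at a point of a fibre, and at its image. -/
theorem isGeomReducedAt_iff_E (f : X ⟶ Y) (y : Y) (a : ↥(f.fiber y)) :
    FBase.IsGeomReducedAt (f.fiberToSpecResidueField y) a ↔ GeomRedFlat5.E f (f.fiberι y a) := by
  have key : ∀ (y : Y) (x : X) (a : ↥(f.fiber y)), f.base x = y → f.fiberι y a = x →
      (FBase.IsGeomReducedAt (f.fiberToSpecResidueField y) a ↔ GeomRedFlat5.E f x) := by
    intro y x a hy ha
    subst hy
    obtain rfl : a = f.asFiber x :=
      (f.fiberι (f.base x)).isEmbedding.injective (ha.trans (Scheme.Hom.fiberι_asFiber f x).symm)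
    exact Iff.rfl
  exact key y _ a (FlatDvr.fiberι_apply_eq f a) rfl

/-- A universally open morphism is universally open at every point. -/
theorem isUnivOpenAt_of_universallyOpen (f : X ⟶ Y) [UniversallyOpen f] (x : X) : EGA43.IsUnivOpenAt f x :=
  fun Y' g x' _ N hN => by
    obtain ⟨O, hON, hO, hxO⟩ := mem_nhds_iff.1 hN
    exact Filter.mem_of_superset
      (((pullback.snd f g).isOpenMap _ hO).mem_nhds ⟨x', hxO, rfl⟩) (Set.image_mono hON)

/-- Every point of a fibre component is joined to the section inside a quasi-compact open. -/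
theorem exists_compact_open [IsLocallyNoetherian Y] (f : X ⟶ Y) [LocallyOfFiniteType f] (s : Y ⟶ X)
    (hs : s ≫ f = 𝟙 Y) {x : X} (hx : x ∈ MoreMor.sectionComponents f s) :
    ∃ U : X.Opens, IsCompact (U : Set X) ∧ s.base (f.base x) ∈ U ∧
      x ∈ connectedComponentIn ((U : Set X) ∩ f.base ⁻¹' {f.base x}) (s.base (f.base x)) := by
  haveI := LocallyOfFiniteType.isLocallyNoetherian f
  have hsf : ∀ y, f.base (s.base y) = y := fun y => congrArg (fun m => m.base y) hs
  obtain ⟨y, hy⟩ : ∃ y, y = f.base x := ⟨_, rfl⟩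
  rw [← hy]
  have hx' : x ∈ connectedComponentIn (f.base ⁻¹' {y}) (s.base y) := by rw [hy]; exact hx
  haveI : IsLocallyNoetherian (f.fiber y) := LocallyOfFiniteType.isLocallyNoetherian (f.fiberToSpecResidueField y)
  let e := f.fiberHomeo y
  have hq : (⟨x, hy.symm⟩ : ↑(f.base ⁻¹' {y})) ∈ connectedComponent (⟨s.base y, hsf y⟩ : ↑(f.base ⁻¹' {y})) := by
    have h1 : x ∈ Subtype.val '' connectedComponent (⟨s.base y, hsf y⟩ : ↑(f.base ⁻¹' {y})) := by
      rw [← connectedComponentIn_eq_image (show s.base y ∈ f.base ⁻¹' {y} from hsf y)]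
      exact hx'
    obtain ⟨w, hw, hwx⟩ := h1
    exact (Subtype.ext hwx : w = ⟨x, hy.symm⟩) ▸ hw
  have hq' : e.symm ⟨x, hy.symm⟩ ∈ connectedComponent (e.symm ⟨s.base y, hsf y⟩) :=
    e.symm.continuous.image_connectedComponent_subset _ ⟨_, hq, rfl⟩
  have key := forall_mem_connectedComponent (W := f.fiber y)
    (P := fun w => ∃ U : X.Opens, IsCompact (U : Set X) ∧ s.base y ∈ U ∧
      f.fiberι y w ∈ connectedComponentIn ((U : Set X) ∩ f.base ⁻¹' {y}) (s.base y)) ?_ ?_ hq'
  · obtain ⟨U, h1, h2, h3⟩ := key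
    rw [f.fiberι_fiberHomeo_symm] at h3
    exact ⟨U, h1, h2, h3⟩
  · intro a b hab _
    have hab' : f.fiberι y a ⤳ f.fiberι y b := hab.map (f.fiberι y).continuous
    have hfa : f.base (f.fiberι y a) = y := FlatDvr.fiberι_apply_eq f a
    have hfb : f.base (f.fiberι y b) = y := FlatDvr.fiberι_apply_eq f b
    have hjoin : ∀ U : X.Opens, f.fiberι y b ∈ U →
        (f.fiberι y a ∈ connectedComponentIn ((U : Set X) ∩ f.base ⁻¹' {y}) (s.base y) ↔
          f.fiberι y b ∈ connectedComponentIn ((U : Set X) ∩ f.base ⁻¹' {y}) (s.base y)) := fun U hbU => by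
      have haU : f.fiberι y a ∈ U := hab'.mem_open U.isOpen hbU
      have hK : _root_.IsPreconnected (closure {f.fiberι y a} ∩ ((U : Set X) ∩ f.base ⁻¹' {y})) :=
        isPreconnected_singleton.subset_closure (Set.singleton_subset_iff.2 ⟨subset_closure rfl, haU, hfa⟩)
          Set.inter_subset_left
      constructor <;> intro h <;> rw [connectedComponentIn_eq h]
      · exact hK.subset_connectedComponentIn ⟨subset_closure rfl, haU, hfa⟩ Set.inter_subset_right
          ⟨specializes_iff_mem_closure.1 hab', hbU, hfb⟩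
      · exact hK.subset_connectedComponentIn ⟨specializes_iff_mem_closure.1 hab', hbU, hfb⟩ Set.inter_subset_right
          ⟨subset_closure rfl, haU, hfa⟩
    constructor
    · rintro ⟨U, hUc, hsU, haU⟩
      obtain ⟨W, hW, hbW, -⟩ :=
        exists_isAffineOpen_mem_and_subset (x := f.fiberι y b) (U := (⊤ : X.Opens)) (by simp)
      refine ⟨U ⊔ W, by rw [Opens.coe_sup]; exact hUc.union hW.isCompact, Or.inl hsU, ?_⟩
      refine (hjoin (U ⊔ W) (Or.inr hbW)).1 ?_
      exact connectedComponentIn_mono _ (Set.inter_subset_inter_left _ (fun _ h => Or.inl h)) haU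
    · rintro ⟨U, hUc, hsU, hbU⟩
      exact ⟨U, hUc, hsU, (hjoin U (connectedComponentIn_subset _ _ hbU).1).2 hbU⟩
  · obtain ⟨W, hW, hsW, -⟩ := exists_isAffineOpen_mem_and_subset (x := s.base y) (U := (⊤ : X.Opens)) (by simp)
    refine ⟨W, hW.isCompact, hsW, ?_⟩
    rw [f.fiberι_fiberHomeo_symm]
    exact mem_connectedComponentIn ⟨hsW, hsf y⟩

/-- Over a locally noetherian base the union of the section components is ind-constructible. -/
theorem isIndConstructible_sectionComponents [IsLocallyNoetherian Y] (f : X ⟶ Y) [LocallyOfFiniteType f]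
    (s : Y ⟶ X) (hs : s ≫ f = 𝟙 Y) : ProCons.IsIndConstructible (MoreMor.sectionComponents f s) := by
  haveI := LocallyOfFiniteType.isLocallyNoetherian f
  have hsf : ∀ y, f.base (s.base y) = y := fun y => congrArg (fun m => m.base y) hs
  intro x₀
  refine ⟨Set.univ, isOpen_univ, trivial, {T | IsLocallyConstructible T ∧
    T ⊆ (Subtype.val ⁻¹' MoreMor.sectionComponents f s : Set ↥(Set.univ : Set X))}, fun T hT => hT.1, ?_⟩
  refine Set.Subset.antisymm ?_ fun z ⟨T, hT, hz⟩ => hT.2 hz
  rintro ⟨x, hu⟩ hx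
  obtain ⟨U, hUc, hsU, hxU⟩ := exists_compact_open f s hs (show x ∈ MoreMor.sectionComponents f s from hx)
  obtain ⟨V, hV, hxV, hVU⟩ := exists_isAffineOpen_mem_and_subset (x := f.base x) (U := s ⁻¹ᵁ U) hsU
  haveI : IsAffine (V : Scheme.{u}) := hV
  haveI : IsLocallyNoetherian (V : Scheme.{u}) := isLocallyNoetherian_of_isOpenImmersion V.ι
  haveI : IsNoetherian (V : Scheme.{u}) := ⟨⟩
  let W : X.Opens := U ⊓ f ⁻¹ᵁ V
  have hWc : IsCompact (W : Set X) := by
    haveI : CompactSpace (U : Scheme.{u}) := isCompact_iff_compactSpace.1 hUc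
    haveI : IsLocallyNoetherian (U : Scheme.{u}) := isLocallyNoetherian_of_isOpenImmersion U.ι
    haveI : IsNoetherian (U : Scheme.{u}) := ⟨⟩
    have h1 : (W : Set X) = U.ι.base '' (U.ι.base ⁻¹' (f.base ⁻¹' (V : Set Y))) := by
      rw [Set.image_preimage_eq_range_inter, U.range_ι]
      rfl
    rw [h1]
    exact (TopologicalSpace.NoetherianSpace.isCompact (α := ↥(U : Scheme.{u})) _).image U.ι.continuous
  haveI : CompactSpace (W : Scheme.{u}) := isCompact_iff_compactSpace.1 hWc
  let f' : (W : Scheme.{u}) ⟶ (V : Scheme.{u}) := X.homOfLE (inf_le_right : W ≤ f ⁻¹ᵁ V) ≫ (f ∣_ V)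
  have hf' : f' ≫ V.ι = W.ι ≫ f := by
    simp only [f', Category.assoc, morphismRestrict_ι, Scheme.homOfLE_ι_assoc]
  let s' : (V : Scheme.{u}) ⟶ (W : Scheme.{u}) := IsOpenImmersion.lift W.ι (V.ι ≫ s) (by
    rintro _ ⟨v, rfl⟩
    rw [W.range_ι]
    refine ⟨hVU v.2, ?_⟩
    show f.base (s.base v.1) ∈ V
    rw [hsf]
    exact v.2)
  have hs' : s' ≫ f' = 𝟙 _ := by
    rw [← cancel_mono V.ι, Category.assoc, hf', ← Category.assoc, IsOpenImmersion.lift_fac, Category.assoc, hs,
      Category.comp_id, Category.id_comp]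
  haveI : LocallyOfFiniteType f' := inferInstance
  haveI : QuasiCompact f' := by
    haveI : QuasiSeparatedSpace (V : Scheme.{u}) := inferInstance
    exact quasiCompact_of_compactSpace f'
  have hcons := isConstructible_sectionComponents f' s' hs'
  have hfi : ∀ w, V.ι.base (f'.base w) = f.base (W.ι.base w) := fun w => congrArg (fun m => m.base w) hf'
  have hsi : ∀ v, W.ι.base (s'.base v) = s.base (V.ι.base v) := fun v =>
    congrArg (fun m => m.base v) (IsOpenImmersion.lift_fac W.ι (V.ι ≫ s) _)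
  let T : Set X := W.ι.base '' MoreMor.sectionComponents f' s'
  have hT : IsLocallyConstructible T := by
    haveI : QuasiCompact W.ι := inferInstance
    haveI : LocallyOfFinitePresentation W.ι := inferInstance
    exact W.ι.isLocallyConstructible_image hcons.isLocallyConstructible
  have hTsub : T ⊆ MoreMor.sectionComponents f s := by
    rintro _ ⟨w, hw, rfl⟩
    have hw' : w ∈ connectedComponentIn (f'.base ⁻¹' {f'.base w}) (s'.base (f'.base w)) := hw
    show W.ι.base w ∈ connectedComponentIn (f.base ⁻¹' {f.base (W.ι.base w)}) (s.base (f.base (W.ι.base w)))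
    have h1 := (isPreconnected_connectedComponentIn (F := f'.base ⁻¹' {f'.base w})
      (x := s'.base (f'.base w))).image _ W.ι.continuous.continuousOn
    refine h1.subset_connectedComponentIn ?_ ?_ ⟨w, hw', rfl⟩
    · refine ⟨s'.base (f'.base w), mem_connectedComponentIn ?_, ?_⟩
      · exact congrArg (fun m => m.base (f'.base w)) hs'
      · rw [hsi, hfi]
    · rintro _ ⟨v, hv, rfl⟩
      have hv' : v ∈ f'.base ⁻¹' {f'.base w} := connectedComponentIn_subset _ _ hv
      show f.base (W.ι.base v) = f.base (W.ι.base w)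
      rw [← hfi, ← hfi, show f'.base v = f'.base w from hv']
  refine ⟨Subtype.val ⁻¹' T, ⟨hT.preimage_of_isOpenEmbedding isOpen_univ.isOpenEmbedding_subtypeVal,
    Set.preimage_mono hTsub⟩, ?_⟩
  show x ∈ T
  have hxW : x ∈ W := ⟨(connectedComponentIn_subset _ _ hxU).1, hxV⟩
  refine ⟨⟨x, hxW⟩, ?_, rfl⟩
  have hfx : V.ι.base (f'.base (⟨x, hxW⟩ : ↥W)) = f.base x := hfi _
  show (⟨x, hxW⟩ : ↥W) ∈ connectedComponentIn (f'.base ⁻¹' {f'.base (⟨x, hxW⟩ : ↥W)})
    (s'.base (f'.base (⟨x, hxW⟩ : ↥W)))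
  have hrange : connectedComponentIn ((U : Set X) ∩ f.base ⁻¹' {f.base x}) (s.base (f.base x)) ⊆ Set.range W.ι.base := by
    intro v hv
    obtain ⟨hvU, hvf⟩ := connectedComponentIn_subset _ _ hv
    rw [W.range_ι]
    exact ⟨hvU, show f.base v ∈ V by rw [show f.base v = f.base x from hvf]; exact hxV⟩
  have hpre : _root_.IsPreconnected
      (W.ι.base ⁻¹' connectedComponentIn ((U : Set X) ∩ f.base ⁻¹' {f.base x}) (s.base (f.base x))) := by
    refine W.ι.isEmbedding.isInducing.isPreconnected_image.1 ?_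
    rw [Set.image_preimage_eq_of_subset hrange]
    exact isPreconnected_connectedComponentIn
  refine hpre.subset_connectedComponentIn ?_ ?_ hxU
  · rw [Set.mem_preimage]
    rw [hsi, hfx]
    exact mem_connectedComponentIn ⟨hsU, hsf _⟩
  · intro v hv
    obtain ⟨-, hvf⟩ := connectedComponentIn_subset _ _ hv
    refine V.ι.isOpenEmbedding.injective ?_
    rw [hfi, hfi]
    exact hvf

/-- The component of the section is in the interior of the union of the section components where the morphism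
is universally open with geometrically reduced fibres. -/
theorem subset_interior_of_noetherian [IsLocallyNoetherian Y] (f : X ⟶ Y) [LocallyOfFiniteType f] (s : Y ⟶ X)
    (hs : s ≫ f = 𝟙 Y) (y : Y)
    (hC : ∀ x ∈ connectedComponentIn (f.base ⁻¹' {y}) (s.base y), EGA43.IsUnivOpenAt f x ∧ GeomRedFlat5.E f x) :
    connectedComponentIn (f.base ⁻¹' {y}) (s.base y) ⊆ interior (MoreMor.sectionComponents f s) := by
  intro x hx
  obtain rfl : f.base x = y := (connectedComponentIn_subset _ _ hx : x ∈ f.base ⁻¹' {y})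
  exact (S3403.result X _ (isIndConstructible_sectionComponents f s hs) x).2 fun x' hx' =>
    mem_sectionComponents_of_specializes f s hs hx' (fun v hv => (hC v hv).1)
      (fun a ha => (isGeomReducedAt_iff_E f _ a).2 (hC _ ha).2) hx

/-- The same for a flat morphism of finite presentation over an affine base. -/
theorem subset_interior_of_flat_affine [IsAffine Y] (f : X ⟶ Y) [Flat f] [LocallyOfFinitePresentation f]
    [QuasiCompact f] [QuasiSeparated f] (s : Y ⟶ X) (hs : s ≫ f = 𝟙 Y) (y : Y)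
    (hC : ∀ x ∈ connectedComponentIn (f.base ⁻¹' {y}) (s.base y), GeomRedFlat5.E f x) :
    connectedComponentIn (f.base ⁻¹' {y}) (s.base y) ⊆ interior (MoreMor.sectionComponents f s) := by
  obtain ⟨Y₁, X₁, f₁, s₁, π, g', hN, -, h1, -, -, hfl, hs₁, hsq, hs'⟩ := exists_flat_model_section f s hs
  haveI := hN; haveI := h1; haveI := hfl
  haveI : LocallyOfFinitePresentation f₁ := inferInstance
  have hSC := S1324.result f₁ s₁ hs₁ f g' π hsq s hs hs'
  have hw : ∀ x, f₁.base (g'.base x) = π.base (f.base x) := fun x => congrArg (fun m => m.base x) hsq.w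
  intro x hx
  obtain rfl : f.base x = y := (connectedComponentIn_subset _ _ hx : x ∈ f.base ⁻¹' {y})
  have hmem : g'.base x ∈ connectedComponentIn (f₁.base ⁻¹' {π.base (f.base x)}) (s₁.base (π.base (f.base x))) := by
    have h : x ∈ MoreMor.sectionComponents f s := hx
    rw [hSC] at h
    have h' : g'.base x ∈ connectedComponentIn (f₁.base ⁻¹' {f₁.base (g'.base x)}) (s₁.base (f₁.base (g'.base x))) := h
    rwa [hw] at h'
  have hint := subset_interior_of_noetherian f₁ s₁ hs₁ (π.base (f.base x)) (fun a ha => ?_) hmem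
  · rw [hSC]
    exact preimage_interior_subset_interior_preimage g'.continuous hint
  · have hfa : f₁.base a = π.base (f.base x) :=
      (connectedComponentIn_subset _ _ ha : a ∈ f₁.base ⁻¹' {π.base (f.base x)})
    obtain ⟨z, hz1, hz2⟩ := Scheme.exists_preimage_of_isPullback hsq a (f.base x) hfa
    refine ⟨isUnivOpenAt_of_universallyOpen f₁ a, ?_⟩
    rw [← hz1]
    refine (GeomRedFlat5.E_iff_of_isPullback hsq z).1 (hC z ?_)
    have hzS : z ∈ MoreMor.sectionComponents f s := by
      rw [hSC]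
      show g'.base z ∈ connectedComponentIn (f₁.base ⁻¹' {f₁.base (g'.base z)}) (s₁.base (f₁.base (g'.base z)))
      rw [hz1, hfa]
      exact ha
    have h' : z ∈ connectedComponentIn (f.base ⁻¹' {f.base z}) (s.base (f.base z)) := hzS
    rwa [show f.base z = f.base x from hz2] at h'

/-- The same for a flat qcqs morphism of finite presentation over any base. -/
theorem subset_interior_of_flat (f : X ⟶ Y) [Flat f] [LocallyOfFinitePresentation f] [QuasiCompact f]
    [QuasiSeparated f] (s : Y ⟶ X) (hs : s ≫ f = 𝟙 Y) (y : Y)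
    (hC : ∀ x ∈ connectedComponentIn (f.base ⁻¹' {y}) (s.base y), GeomRedFlat5.E f x) :
    connectedComponentIn (f.base ⁻¹' {y}) (s.base y) ⊆ interior (MoreMor.sectionComponents f s) := by
  obtain ⟨V, hV, hyV, -⟩ := exists_isAffineOpen_mem_and_subset (x := y) (U := (⊤ : Y.Opens)) (by simp)
  haveI : IsAffine (V : Scheme.{u}) := hV
  have hsq := (isPullback_morphismRestrict f V).flip
  let s' : (V : Scheme.{u}) ⟶ (f ⁻¹ᵁ V : Scheme.{u}) := hsq.lift (V.ι ≫ s) (𝟙 _)
    (by rw [Category.assoc, hs, Category.comp_id, Category.id_comp])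
  haveI : LocallyOfFinitePresentation (f ∣_ V) := MorphismProperty.of_isPullback hsq ‹_›
  haveI : QuasiCompact (f ∣_ V) := MorphismProperty.of_isPullback hsq ‹_›
  haveI : QuasiSeparated (f ∣_ V) := MorphismProperty.of_isPullback hsq ‹_›
  haveI : Flat (f ∣_ V) := MorphismProperty.of_isPullback hsq ‹_›
  have hSC := S1324.result f s hs (f ∣_ V) (f ⁻¹ᵁ V).ι V.ι hsq s' (hsq.lift_snd _ _ _) (hsq.lift_fst _ _ _)
  have hw : ∀ v, V.ι.base ((f ∣_ V).base v) = f.base ((f ⁻¹ᵁ V).ι.base v) := fun v =>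
    congrArg (fun m : (↑(f ⁻¹ᵁ V) : Scheme.{u}) ⟶ Y => m.base v) (morphismRestrict_ι f V)
  intro x hx
  obtain rfl : f.base x = y := (connectedComponentIn_subset _ _ hx : x ∈ f.base ⁻¹' {y})
  have hxV : x ∈ f ⁻¹ᵁ V := hyV
  have hmem : (⟨x, hxV⟩ : ↥(f ⁻¹ᵁ V)) ∈ connectedComponentIn ((f ∣_ V).base ⁻¹' {(f ∣_ V).base ⟨x, hxV⟩})
      (s'.base ((f ∣_ V).base ⟨x, hxV⟩)) := by
    have h : (⟨x, hxV⟩ : ↥(f ⁻¹ᵁ V)) ∈ MoreMor.sectionComponents (f ∣_ V) s' := by rw [hSC]; exact hx
    exact h
  have hint := subset_interior_of_flat_affine (f ∣_ V) s' (hsq.lift_snd _ _ _) _ (fun a ha => ?_) hmem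
  · rw [hSC, ← (f ⁻¹ᵁ V).ι.isOpenEmbedding.isOpenMap.preimage_interior_eq_interior_preimage
      (f ⁻¹ᵁ V).ι.continuous] at hint
    exact hint
  · refine (GeomRedFlat5.E_iff_of_isPullback hsq a).2 (hC _ ?_)
    have hfa : (f ∣_ V).base a = (f ∣_ V).base ⟨x, hxV⟩ :=
      (connectedComponentIn_subset _ _ ha : a ∈ (f ∣_ V).base ⁻¹' {(f ∣_ V).base ⟨x, hxV⟩})
    have h : a ∈ MoreMor.sectionComponents (f ∣_ V) s' := by
      show a ∈ connectedComponentIn ((f ∣_ V).base ⁻¹' {(f ∣_ V).base a}) (s'.base ((f ∣_ V).base a))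
      rw [hfa]
      exact ha
    rw [hSC] at h
    have h' : (f ⁻¹ᵁ V).ι.base a ∈ connectedComponentIn (f.base ⁻¹' {f.base ((f ⁻¹ᵁ V).ι.base a)})
      (s.base (f.base ((f ⁻¹ᵁ V).ι.base a))) := h
    rwa [← hw, hfa, hw] at h'

end Groth.Agent.Ega43Sect
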