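import Groth.Agent.Ega43Sect.GenStep
import Groth.Agent.Ega43Sect.SectInterior
import Groth.Agent.GeomRedFlat5.Nhd

/-!
# Openness of the constant-dimension geometrically reduced part of the section components (EGA IV 15.6.6)
-/

set_option autoImplicit false
set_option linter.style.haveILetI false
set_option backward.isDefEq.respectTransparency false
set_option backward.isDefEq.respectTransparency.types false

universe u

open AlgebraicGeometry CategoryTheory CategoryTheory.Limits TopologicalSpace Topology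

namespace Groth.Agent.Ega43Sect

variable {X Y : Scheme.{u}}

/-- The dimension of an irreducible component of the section, as a fibre dimension. -/
theorem dim_component_eq (f : X ⟶ Y) [LocallyOfFiniteType f] {s : Y ⟶ X} (hs : s ≫ f = 𝟙 Y) {y : Y}
    (h : GI f s y) :
    topologicalKrullDim ↥(connectedComponentIn (f.base ⁻¹' {y}) (s.base y)) = FlatMor.fibreDimAt f (s.base y) :=
  UnivOpen.dim_component f (UnivOpen.apply_section hs y) (irreducible_of_GI f h)

/-- `mem_and_E_of_specializes` for qcqs morphisms of finite presentation over any base. -/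
theorem mem_and_E_of_specializes_fp (f : X ⟶ Y) [LocallyOfFinitePresentation f] [QuasiCompact f] [QuasiSeparated f]
    (s : Y ⟶ X) (hs : s ≫ f = 𝟙 Y) {x z : ↥X} (hxz : x ⤳ z) (hz : z ∈ MoreMor.sectionComponents f s)
    (hgz : GI f s (f.base z)) (hgx : GI f s (f.base x))
    (hd : topologicalKrullDim ↥(connectedComponentIn (f.base ⁻¹' {f.base z}) (s.base (f.base z))) ≤
      topologicalKrullDim ↥(connectedComponentIn (f.base ⁻¹' {f.base x}) (s.base (f.base x))))
    (hE : GeomRedFlat5.E f z) :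
    x ∈ MoreMor.sectionComponents f s ∧ GeomRedFlat5.E f x := by
  obtain ⟨V, hV, hzV, -⟩ := exists_isAffineOpen_mem_and_subset (x := f.base z) (U := (⊤ : Y.Opens)) (by simp)
  haveI : IsAffine (V : Scheme.{u}) := hV
  have hxV : f.base x ∈ V := (hxz.map f.continuous).mem_open V.isOpen hzV
  have hsqA := (isPullback_morphismRestrict f V).flip
  let sA : (V : Scheme.{u}) ⟶ (f ⁻¹ᵁ V : Scheme.{u}) := hsqA.lift (V.ι ≫ s) (𝟙 _)
    (by rw [Category.assoc, hs, Category.comp_id, Category.id_comp])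
  haveI : LocallyOfFinitePresentation (f ∣_ V) := MorphismProperty.of_isPullback hsqA ‹_›
  haveI : QuasiCompact (f ∣_ V) := MorphismProperty.of_isPullback hsqA ‹_›
  haveI : QuasiSeparated (f ∣_ V) := MorphismProperty.of_isPullback hsqA ‹_›
  have hsA : sA ≫ (f ∣_ V) = 𝟙 _ := hsqA.lift_snd _ _ _
  have hsA' : sA ≫ (f ⁻¹ᵁ V).ι = V.ι ≫ s := hsqA.lift_fst _ _ _
  obtain ⟨Y₁, X₁, f₁, s₁, π, g', hN, h1, -, hs₁, hsq, hs'⟩ := exists_model_section (f ∣_ V) sA hsA
  haveI := hN; haveI := h1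
  have hSCA := S1324.result f s hs (f ∣_ V) (f ⁻¹ᵁ V).ι V.ι hsqA sA hsA hsA'
  have hSC := S1324.result f₁ s₁ hs₁ (f ∣_ V) g' π hsq sA hsA hs'
  let a : ↥(f ⁻¹ᵁ V) := ⟨z, hzV⟩
  let a' : ↥(f ⁻¹ᵁ V) := ⟨x, hxV⟩
  have haa : a' ⤳ a := Topology.IsInducing.subtypeVal.specializes_iff.1 hxz
  have hπ : ∀ b : ↥(f ⁻¹ᵁ V), f₁.base (g'.base b) = π.base ((f ∣_ V).base b) := fun b =>
    congrArg (fun m : (f ⁻¹ᵁ V : Scheme.{u}) ⟶ Y₁ => m.base b) hsq.w
  have hι : ∀ b : ↥(f ⁻¹ᵁ V), V.ι.base ((f ∣_ V).base b) = f.base b.1 := fun b =>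
    (congrArg (fun m : (f ⁻¹ᵁ V : Scheme.{u}) ⟶ Y => m.base b) hsqA.w).symm
  have hgi : ∀ b : ↥(f ⁻¹ᵁ V), GI f s (f.base b.1) → GI f₁ s₁ (f₁.base (g'.base b)) := fun b hb => by
    rw [hπ b]
    exact GI_descend hsqA hsq hSCA hSC _ (by rw [hι b]; exact hb)
  have hdim : ∀ b : ↥(f ⁻¹ᵁ V), GI f s (f.base b.1) →
      topologicalKrullDim ↥(connectedComponentIn (f₁.base ⁻¹' {f₁.base (g'.base b)}) (s₁.base (f₁.base (g'.base b)))) =
        topologicalKrullDim ↥(connectedComponentIn (f.base ⁻¹' {f.base b.1}) (s.base (f.base b.1))) := fun b hb => by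
    rw [dim_component_eq f₁ hs₁ (hgi b hb), dim_component_eq f hs hb]
    have e1 := FibDim.fibreDimAt_baseChange hsq (sA.base ((f ∣_ V).base b))
    have e2 := FibDim.fibreDimAt_baseChange hsqA (sA.base ((f ∣_ V).base b))
    have e3 : g'.base (sA.base ((f ∣_ V).base b)) = s₁.base (f₁.base (g'.base b)) :=
      (congrArg (fun m : (V : Scheme.{u}) ⟶ X₁ => m.base ((f ∣_ V).base b)) hs').trans
        (congrArg s₁.base (hπ b).symm)
    have e4 : (f ⁻¹ᵁ V).ι.base (sA.base ((f ∣_ V).base b)) = s.base (f.base b.1) :=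
      (congrArg (fun m : (V : Scheme.{u}) ⟶ X => m.base ((f ∣_ V).base b)) hsA').trans
        (congrArg s.base (hι b))
    rw [← e3, ← e4]
    exact e1.symm.trans e2
  have hmem : ∀ b : ↥(f ⁻¹ᵁ V), g'.base b ∈ MoreMor.sectionComponents f₁ s₁ ↔ b.1 ∈ MoreMor.sectionComponents f s :=
    fun b => Set.ext_iff.1 (hSC.symm.trans hSCA) b
  have hEiff : ∀ b : ↥(f ⁻¹ᵁ V), GeomRedFlat5.E f₁ (g'.base b) ↔ GeomRedFlat5.E f b.1 := fun b =>
    (GeomRedFlat5.E_iff_of_isPullback hsq b).symm.trans (GeomRedFlat5.E_iff_of_isPullback hsqA b)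
  obtain ⟨r1, r2⟩ := mem_and_E_of_specializes f₁ s₁ hs₁ (haa.map g'.continuous) ((hmem a).2 hz) (hgi a hgz)
    (hgi a' hgx) (by rw [hdim a hgz, hdim a' hgx]; exact hd) ((hEiff a).2 hE)
  exact ⟨(hmem a').1 r1, (hEiff a').1 r2⟩

/-- EGA IV 15.6.6 (iii). -/
theorem isOpen_dimConst_E (f : X ⟶ Y) (s : Y ⟶ X) (hs : s ≫ f = 𝟙 Y)
    (hfin : (IsLocallyNoetherian Y ∧ LocallyOfFiniteType f) ∨
      (LocallyOfFinitePresentation f ∧ QuasiCompact f ∧ QuasiSeparated f))
    (hgi : ∀ y, GI f s y) :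
    IsOpen {x : X | x ∈ MoreMor.sectionComponents f s ∧
      (∃ V ∈ 𝓝 (f.base x), ∀ z ∈ V, topologicalKrullDim ↥(connectedComponentIn (f.base ⁻¹' {z}) (s.base z)) =
        topologicalKrullDim ↥(connectedComponentIn (f.base ⁻¹' {f.base x}) (s.base (f.base x)))) ∧
      GeomRedFlat5.E f x} := by
  rw [isOpen_iff_mem_nhds]
  rintro x ⟨hxS, ⟨N, hN, hNc⟩, hxE⟩
  obtain ⟨O, hON, hO, hxO⟩ := mem_nhds_iff.1 hN
  have hlfp : LocallyOfFinitePresentation f := by
    rcases hfin with ⟨hY, hf⟩ | ⟨hf, -, -⟩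
    · haveI := hY; haveI := hf; exact FibreLoc5.lfp_of_noetherian' f
    · exact hf
  haveI := hlfp
  have hE : ProCons.IsIndConstructible {x : X | GeomRedFlat5.E f x} :=
    isIndConstructible_of_isLocallyConstructible (FibreLoc5.isLocallyConstructible good_E f)
  have hS : ProCons.IsIndConstructible (MoreMor.sectionComponents f s) := by
    rcases hfin with ⟨hY, hf⟩ | ⟨-, h2, h3⟩
    · haveI := hY; exact isIndConstructible_sectionComponents f s hs
    · haveI := h2; haveI := h3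
      exact isIndConstructible_of_isLocallyConstructible (isLocallyConstructible_sectionComponents f s hs)
  have hgen : ∀ x', x' ⤳ x → x' ∈ MoreMor.sectionComponents f s ∧ GeomRedFlat5.E f x' := fun x' hx' => by
    have hd := (hNc (f.base x') (hON ((hx'.map f.continuous).mem_open hO hxO))).ge
    rcases hfin with ⟨hY, hf⟩ | ⟨-, h2, h3⟩
    · haveI := hY; haveI := hf
      exact mem_and_E_of_specializes f s hs hx' hxS (hgi _) (hgi _) hd hxE
    · haveI := h2; haveI := h3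
      exact mem_and_E_of_specializes_fp f s hs hx' hxS (hgi _) (hgi _) hd hxE
  have h1 := (S3403.result X _ hS x).2 fun x' hx' => (hgen x' hx').1
  have h2 := (S3403.result X _ hE x).2 fun x' hx' => (hgen x' hx').2
  refine Filter.mem_of_superset (Filter.inter_mem (Filter.inter_mem (mem_interior_iff_mem_nhds.1 h1)
    (mem_interior_iff_mem_nhds.1 h2)) ((hO.preimage f.continuous).mem_nhds hxO)) ?_
  rintro w ⟨⟨hwS, hwE⟩, hwO⟩
  exact ⟨hwS, ⟨O, hO.mem_nhds hwO, fun v hv =>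
    (hNc v (hON hv)).trans (hNc _ (hON hwO)).symm⟩, hwE⟩

end Groth.Agent.Ega43Sect
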