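import Groth.Agent.UnivOpen.SectionConst
import Groth.Agent.UnivOpen.Criterion
import Groth.Agent.FlatDvr.Connected
import Groth.Agent.FibDim.RelDim
import Groth.Agent.GeomRedFlat5.Open
import Groth.Agent.FibreLoc5.Constr
import Groth.Agent.S1324
import Groth.Agent.S3403
import Groth.Prelude.Def_ProCons
import Groth.Prelude.Def_MoreMor

/-!
# Generizations of geometrically reduced points of irreducible section components (EGA IV 15.6.6)
-/

set_option autoImplicit false
set_option linter.style.haveILetI false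

universe u

open AlgebraicGeometry CategoryTheory CategoryTheory.Limits TopologicalSpace Topology IsLocalRing

namespace Groth.Agent.Ega43Sect

variable {X Y : Scheme.{u}}

/-- The component of the section in the fibre over `y` is geometrically irreducible. -/
abbrev GI (f : X ⟶ Y) (s : Y ⟶ X) (y : Y) : Prop :=
  ∀ (K : Type u) [Field K] [Algebra (IsLocalRing.ResidueField (Y.presheaf.stalk y)) K],
    IsIrreducible ((FBase.bcπ (f.fiberToSpecResidueField y) K ≫ f.fiberι y).base ⁻¹'
      connectedComponentIn (f.base ⁻¹' {y}) (s.base y))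

theorem irreducible_of_GI (f : X ⟶ Y) {s : Y ⟶ X} {y : Y} (h : GI f s y) :
    IsIrreducible (connectedComponentIn (f.base ⁻¹' {y}) (s.base y)) := by
  have hsurj : Function.Surjective (FBase.bcπ (f.fiberToSpecResidueField y) (IsLocalRing.ResidueField (Y.presheaf.stalk y))).base := by
    intro w
    obtain ⟨b, hb, -⟩ := Scheme.Pullback.exists_preimage_pullback (f := f.fiberToSpecResidueField y)
      (g := Spec.map (CommRingCat.ofHom (algebraMap (IsLocalRing.ResidueField (Y.presheaf.stalk y))
        (IsLocalRing.ResidueField (Y.presheaf.stalk y))))) w (f.fiberToSpecResidueField y w)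
      (Subsingleton.elim (α := PrimeSpectrum (IsLocalRing.ResidueField (Y.presheaf.stalk y))) _ _)
    exact ⟨b, hb⟩
  have himg := (h (IsLocalRing.ResidueField (Y.presheaf.stalk y))).image
    (FBase.bcπ (f.fiberToSpecResidueField y) _ ≫ f.fiberι y).base
    (FBase.bcπ (f.fiberToSpecResidueField y) _ ≫ f.fiberι y).continuous.continuousOn
  rwa [Set.image_preimage_eq_of_subset ?_] at himg
  intro v hv
  obtain ⟨w, rfl⟩ : v ∈ Set.range (f.fiberι y) := by
    rw [Scheme.Hom.range_fiberι]; exact connectedComponentIn_subset _ _ hv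
  obtain ⟨b, rfl⟩ := hsurj w
  exact ⟨b, rfl⟩

/-- Points specializing to a point of a fibre component inside the fibre lie in the component. -/
theorem mem_component_of_specializes (f : X ⟶ Y) {a b : X} {x₀ : X} {y : Y} (hab : a ⤳ b) (ha : f a = y)
    (hb : b ∈ connectedComponentIn (f.base ⁻¹' {y}) x₀) : a ∈ connectedComponentIn (f.base ⁻¹' {y}) x₀ := by
  have hby : f.base b = y := (connectedComponentIn_subset _ _ hb : b ∈ f.base ⁻¹' {y})
  rw [connectedComponentIn_eq hb]
  exact (isPreconnected_singleton.subset_closure (t := closure {a} ∩ f.base ⁻¹' {y})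
    (Set.singleton_subset_iff.2 ⟨subset_closure rfl, ha⟩) Set.inter_subset_left).subset_connectedComponentIn
    ⟨specializes_iff_mem_closure.1 hab, hby⟩ Set.inter_subset_right ⟨subset_closure rfl, ha⟩

/-- Over a specialization along which the dimension of the component does not drop, the component over the
generization dominates the component over the specialization. -/
theorem exists_dominating₂ (f : X ⟶ Y) [LocallyOfFiniteType f] {g : Y ⟶ X} (hg : g ≫ f = 𝟙 Y)
    {Y' : Scheme.{u}} (τ : Y' ⟶ Y) {c t : Y'} (htc : t ⤳ c) (hc : GI f g (τ c)) (ht : GI f g (τ t))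
    (hle : topologicalKrullDim ↥(connectedComponentIn (f.base ⁻¹' {τ c}) (g.base (τ c))) ≤
      topologicalKrullDim ↥(connectedComponentIn (f.base ⁻¹' {τ t}) (g.base (τ t)))) :
    ∃ ω₁ : ↥(pullback f τ), pullback.snd f τ ω₁ = t ∧
      pullback.fst f τ ω₁ ∈ connectedComponentIn (f.base ⁻¹' {τ t}) (g.base (τ t)) ∧
      ∀ v, pullback.snd f τ v = c →
        pullback.fst f τ v ∈ connectedComponentIn (f.base ⁻¹' {τ c}) (g.base (τ c)) → ω₁ ⤳ v := by
  have hirc := irreducible_of_GI f hc
  have hirt := irreducible_of_GI f ht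
  obtain ⟨ζ, hfζ, -, -, hζC, hζv, hdc⟩ := UnivOpen.exists_component_generic f (UnivOpen.apply_section hg (τ c)) hirc
  obtain ⟨ξ₁, hfξ₁, hξ₁g, -, -, -, hdt⟩ := UnivOpen.exists_component_generic f (UnivOpen.apply_section hg (τ t)) hirt
  rw [UnivOpen.dim_component f (UnivOpen.apply_section hg _) hirc,
    UnivOpen.dim_component f (UnivOpen.apply_section hg _) hirt, hdc, hdt] at hle
  have hle' : FibDim.rd f ζ ≤ FibDim.rd f ξ₁ := by exact_mod_cast hle
  let q := pullback.snd f τ
  let p := pullback.fst f τ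
  have hpq : ∀ v, f (p v) = τ (q v) := fun v => by
    rw [← Scheme.Hom.comp_apply, pullback.condition, Scheme.Hom.comp_apply]
  have hS := UnivOpen.isIrreducible_preimage_over f τ c rfl _ (connectedComponentIn_subset _ _) hc
  have hS₁ := UnivOpen.isIrreducible_preimage_over f τ t rfl _ (connectedComponentIn_subset _ _) ht
  let S : Set ↥(pullback f τ) := {v | q v = c ∧ p v ∈ connectedComponentIn (f.base ⁻¹' {τ c}) (g.base (τ c))}
  let S₁ : Set ↥(pullback f τ) := {v | q v = t ∧ p v ∈ connectedComponentIn (f.base ⁻¹' {τ t}) (g.base (τ t))}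
  let ω := hS.genericPoint
  let ω₁ := hS₁.genericPoint
  have hω : IsGenericPoint ω (closure S) := hS.isGenericPoint_genericPoint_closure
  have hω₁ : IsGenericPoint ω₁ (closure S₁) := hS₁.isGenericPoint_genericPoint_closure
  let g' : Y' ⟶ pullback f τ := pullback.lift (τ ≫ g) (𝟙 Y')
    (by rw [Category.assoc, hg, Category.comp_id, Category.id_comp])
  have hg' : g' ≫ q = 𝟙 Y' := pullback.lift_snd _ _ _
  have hg'₁ : ∀ a, p (g' a) = g (τ a) := fun a =>
    congrArg (fun m => m.base a) (pullback.lift_fst (τ ≫ g) (𝟙 Y') _)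
  haveI : LocallyOfFiniteType q := inferInstanceAs (LocallyOfFiniteType (pullback.snd f τ))
  have hmem₁ : g' t ∈ S₁ := ⟨UnivOpen.apply_section hg' t, by
    rw [hg'₁]; exact mem_connectedComponentIn (UnivOpen.apply_section hg _)⟩
  have hqω₁ : q ω₁ = t := by
    have h1 : q ω₁ ⤳ t :=
      ((hω₁.specializes (subset_closure hmem₁)).map q.continuous).trans (specializes_of_eq hmem₁.1)
    have h2 : t ⤳ q ω₁ := by
      rw [specializes_iff_mem_closure]
      refine closure_mono ?_ (image_closure_subset_closure_image q.continuous ⟨ω₁, hω₁.mem, rfl⟩)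
      exact Set.image_subset_iff.2 fun v hv => hv.1
    exact (h1.antisymm h2).eq
  have hpω₁ : p ω₁ ∈ connectedComponentIn (f.base ⁻¹' {τ t}) (g.base (τ t)) := by
    refine mem_component_of_specializes f ((hω₁.specializes (subset_closure hmem₁)).map p.continuous) ?_ hmem₁.2
    rw [hpq, hqω₁]
  refine ⟨ω₁, hqω₁, hpω₁, fun v hv hvC => ?_⟩
  obtain ⟨v₁, hv₁p, hv₁q, hv₁r⟩ := FibDim.exists_rd_baseChange_eq (IsPullback.of_hasPullback f τ) ξ₁ t hfξ₁
  have hv₁S : v₁ ∈ S₁ := ⟨hv₁q, by
    rw [show p v₁ = ξ₁ from hv₁p]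
    exact mem_component_of_specializes f hξ₁g hfξ₁ (mem_connectedComponentIn (UnivOpen.apply_section hg _))⟩
  have hv₁r' : FibDim.rd q v₁ = FibDim.rd f ξ₁ := hv₁r
  have hr₁ : FibDim.rd q v₁ ≤ FibDim.rd q ω₁ :=
    FibDim.rd_le_of_specializes _ (hω₁.specializes (subset_closure hv₁S)) (hqω₁.trans hv₁q.symm)
  obtain ⟨z, hωz, hzg, hqz, hrz⟩ := FibDim.exists_rd_ge q
    ((hω₁.specializes (subset_closure hmem₁)).trans (htc.map g'.continuous))
  rw [UnivOpen.apply_section hg'] at hqz
  have hpzg : p z ⤳ g (τ c) := (hzg.map p.continuous).trans (specializes_of_eq (hg'₁ c))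
  have hzS : z ∈ S := ⟨hqz, mem_component_of_specializes f hpzg (by rw [hpq, hqz])
    (mem_connectedComponentIn (UnivOpen.apply_section hg _))⟩
  have hqω : q ω = c := by
    have h1 : q ω ⤳ c :=
      ((hω.specializes (subset_closure hzS)).map q.continuous).trans (specializes_of_eq hqz)
    have h2 : c ⤳ q ω := by
      rw [specializes_iff_mem_closure]
      refine closure_mono ?_ (image_closure_subset_closure_image q.continuous ⟨ω, hω.mem, rfl⟩)
      exact Set.image_subset_iff.2 fun v hv => hv.1
    exact (h1.antisymm h2).eq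
  have hrω : FibDim.rd q ω ≤ FibDim.rd f ζ := by
    refine (FibDim.rd_baseChange_le (IsPullback.of_hasPullback f τ) ω).trans ?_
    have hpω : p ω ⤳ g (τ c) :=
      ((hω.specializes (subset_closure hzS)).map p.continuous).trans hpzg
    have hfp : f (p ω) = τ c := by rw [hpq, hqω]
    exact FibDim.rd_le_of_specializes f (hζv _ hfp hpω) (hfζ.trans hfp.symm)
  have hzω : z = ω := by
    by_contra hne
    have := FibDim.rd_lt q (hω.specializes (subset_closure hzS)) (Ne.symm hne) (hqω.trans hqz.symm)
    omega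
  exact (hωz.trans (specializes_of_eq hzω)).trans (hω.specializes (subset_closure ⟨hv, hvC⟩))

/-- Geometric reducedness is stable under generization inside a fibre. -/
theorem E_of_specializes_in_fibre (f : X ⟶ Y) [LocallyOfFiniteType f] {x z : X} (hxz : x ⤳ z)
    (hfx : f.base x = f.base z) (hE : GeomRedFlat5.E f z) : GeomRedFlat5.E f x := by
  obtain ⟨y, rfl⟩ : ∃ y, y = f.base z := ⟨_, rfl⟩
  let q := f.fiberToSpecResidueField (f.base z)
  have hsq : IsPullback (f.fiberι (f.base z)) q f (Y.fromSpecResidueField (f.base z)) := IsPullback.of_hasPullback _ _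
  obtain ⟨a, ha⟩ : x ∈ Set.range (f.fiberι (f.base z)) := by rw [Scheme.Hom.range_fiberι]; exact hfx
  obtain ⟨b, hb⟩ : z ∈ Set.range (f.fiberι (f.base z)) := by rw [Scheme.Hom.range_fiberι]; exact rfl
  have hab : a ⤳ b := (f.fiberι (f.base z)).isEmbedding.isInducing.specializes_iff.1 (by rw [ha, hb]; exact hxz)
  haveI : LocallyOfFiniteType q := inferInstance
  have hflat : ∀ w, (q.stalkMap w).hom.Flat := fun w => by
    haveI : Flat q := inferInstance
    exact (Flat.iff_flat_stalkMap q).1 inferInstance w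
  have hEb : GeomRedFlat5.E q b := (GeomRedFlat5.E_iff_of_isPullback hsq b).2 (hb.symm ▸ hE)
  have := hab.mem_open (GeomRedFlat5.isOpen_FE_noetherian q) ⟨hflat b, hEb⟩
  rw [← ha]
  exact (GeomRedFlat5.E_iff_of_isPullback hsq a).1 this.2

/-- Generizations of a geometrically reduced point of a section component stay in the union of the section
components, and stay geometrically reduced, when the dimension of the component does not drop. -/
theorem mem_and_E_of_specializes [IsLocallyNoetherian Y] (f : X ⟶ Y) [LocallyOfFiniteType f] (s : Y ⟶ X)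
    (hs : s ≫ f = 𝟙 Y) {x z : ↥X} (hxz : x ⤳ z) (hz : z ∈ MoreMor.sectionComponents f s)
    (hgz : GI f s (f.base z)) (hgx : GI f s (f.base x))
    (hd : topologicalKrullDim ↥(connectedComponentIn (f.base ⁻¹' {f.base z}) (s.base (f.base z))) ≤
      topologicalKrullDim ↥(connectedComponentIn (f.base ⁻¹' {f.base x}) (s.base (f.base x))))
    (hE : GeomRedFlat5.E f z) :
    x ∈ MoreMor.sectionComponents f s ∧ GeomRedFlat5.E f x := by
  haveI := LocallyOfFiniteType.isLocallyNoetherian f
  by_cases hy : f.base x = f.base z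
  · refine ⟨?_, E_of_specializes_in_fibre f hxz hy hE⟩
    show x ∈ connectedComponentIn (f.base ⁻¹' {f.base x}) (s.base (f.base x))
    rw [hy]
    exact mem_component_of_specializes f hxz hy hz
  obtain ⟨R, _, _, _, τ, hτc, hτg⟩ := UnivOpen.exists_dvr_lift hxz (fun h => hy (by rw [h]))
  haveI : IsLocallyNoetherian (Spec (CommRingCat.of R)) := inferInstance
  obtain ⟨η, hη⟩ : ∃ η : Spec (CommRingCat.of R), η ≠ closedPoint R :=
    ⟨(⟨⊥, Ideal.isPrime_bot⟩ : PrimeSpectrum R), fun h =>
      IsDiscreteValuationRing.not_a_field R (congrArg PrimeSpectrum.asIdeal h).symm⟩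
  have hηc : η ⤳ closedPoint R := (PrimeSpectrum.le_iff_specializes (η : PrimeSpectrum R) (closedPoint R)).1
    (IsLocalRing.le_maximalIdeal (η : PrimeSpectrum R).isPrime.ne_top)
  have hgen : ∀ t : Spec (CommRingCat.of R), t ≠ closedPoint R → t = η := fun t ht => by
    have hbot : ∀ q : PrimeSpectrum R, q ≠ closedPoint R → q.asIdeal = ⊥ := fun q hq => by
      by_contra hb
      exact hq (PrimeSpectrum.ext (IsLocalRing.eq_maximalIdeal (q.isPrime.isMaximal hb)))
    exact PrimeSpectrum.ext ((hbot _ ht).trans (hbot _ hη).symm)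
  let b : Spec (CommRingCat.of R) ⟶ Y := τ ≫ f
  have hbc : b.base (closedPoint R) = f.base z := by
    show f.base (τ.base (closedPoint R)) = _
    rw [hτc]
  have hbη : b.base η = f.base x := by
    show f.base (τ.base η) = _
    rw [hτg η hη]
  let q := pullback.snd f b
  let p := pullback.fst f b
  haveI : LocallyOfFiniteType q := inferInstanceAs (LocallyOfFiniteType (pullback.snd f b))
  have hsq : IsPullback p q f b := IsPullback.of_hasPullback _ _
  have hpq : ∀ v, f.base (p.base v) = b.base (q.base v) := fun v =>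
    congrArg (fun m : pullback f b ⟶ Y => m.base v) hsq.w
  let ρ : Spec (CommRingCat.of R) ⟶ pullback f b := pullback.lift τ (𝟙 _) (Category.id_comp _).symm
  have hpρ : ∀ t, p.base (ρ.base t) = τ.base t := fun t =>
    congrArg (fun m => m.base t) (pullback.lift_fst τ (𝟙 _) (Category.id_comp b).symm)
  have hqρ : ∀ t, q.base (ρ.base t) = t := fun t =>
    congrArg (fun m => m.base t) (pullback.lift_snd τ (𝟙 _) (Category.id_comp b).symm)
  obtain ⟨ω₁, hqω₁, hpω₁, hω₁⟩ := exists_dominating₂ f hs b hηc
    (by show GI f s (b.base (closedPoint R)); rw [hbc]; exact hgz)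
    (by show GI f s (b.base η); rw [hbη]; exact hgx)
    (by rw [show b (closedPoint R) = f.base z from hbc, show b η = f.base x from hbη]; exact hd)
  rw [show b η = f.base x from hbη] at hpω₁
  rw [show b (closedPoint R) = f.base z from hbc] at hω₁
  obtain ⟨w, hw⟩ : ρ.base (closedPoint R) ∈ Set.range (q.fiberι (closedPoint R)) :=
    (q.range_fiberι _).ge (hqρ _)
  have hpw : p.base (q.fiberι (closedPoint R) w) = z := by rw [hw]; exact (hpρ _).trans hτc
  have hzC : z ∈ connectedComponentIn (f.base ⁻¹' {f.base z}) (s.base (f.base z)) := hz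
  have hzC' : p.base (q.fiberι (closedPoint R) w) ∈ connectedComponentIn (f.base ⁻¹' {f.base z}) (s.base (f.base z)) := by
    rw [hpw]; exact hzC
  have hqw : q.base (q.fiberι (closedPoint R) w) = closedPoint R := FlatDvr.fiberι_apply_eq q w
  have hopen : ∀ v, v ⤳ q.fiberι (closedPoint R) w → q v = q (q.fiberι (closedPoint R) w) →
      FibDim.FibMax q v → EGA43.IsOpenAt q.base v := fun v hv hqv _ => by
    have hqv' : q v = closedPoint R := hqv.trans hqw
    have hpv : p.base v ∈ connectedComponentIn (f.base ⁻¹' {f.base z}) (s.base (f.base z)) :=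
      mem_component_of_specializes f (hv.map p.continuous)
        (((hpq v).trans (congrArg b.base hqv')).trans hbc) hzC'
    refine UnivOpen.isOpenAt_of_lifts q v fun t ht => ?_
    by_cases htc : t = closedPoint R
    · exact ⟨v, specializes_refl _, hqv'.trans htc.symm⟩
    · exact ⟨ω₁, hω₁ v hqv' hpv, hqω₁.trans (hgen t htc).symm⟩
  obtain ⟨a, ha⟩ : z ∈ Set.range (f.fiberι (f.base z)) := (f.range_fiberι _).ge rfl
  have hEa : FBase.IsGeomReducedAt (f.fiberToSpecResidueField (f.base z)) a := by
    obtain rfl : a = f.asFiber z :=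
      (f.fiberι (f.base z)).isEmbedding.injective (ha.trans (Scheme.Hom.fiberι_asFiber f z).symm)
    exact hE
  have hred := UnivOpen.isReduced_fibre_baseChange f b hbc a hEa w (hpw.trans ha.symm)
  have hρw : ρ.base η ⤳ q.fiberι (closedPoint R) w := by rw [hw]; exact hηc.map ρ.continuous
  constructor
  · obtain ⟨T, hT, hρT, hωT⟩ := FlatDvr.exists_preconnected_generic q rfl w hopen hred hρw
      (hω₁ _ hqw hzC') (by rw [show q (ρ.base η) = η from hqρ η]; exact hη) (by rw [hqω₁]; exact hη)
    have hTη : ∀ t ∈ T, q t = η := fun t ht => hgen _ (hT.2 t ht)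
    have hsub : p.base '' T ⊆ f.base ⁻¹' {f.base x} := by
      rintro _ ⟨t, ht, rfl⟩
      exact ((hpq t).trans (congrArg b.base (hTη t ht))).trans hbη
    show x ∈ connectedComponentIn (f.base ⁻¹' {f.base x}) (s.base (f.base x))
    rw [connectedComponentIn_eq hpω₁]
    exact (hT.1.image p.base p.continuous.continuousOn).subset_connectedComponentIn ⟨ω₁, hωT, rfl⟩ hsub
      ⟨ρ.base η, hρT, (hpρ η).trans (hτg η hη)⟩
  · have hflat := FlatDvr.flat_stalkMap q rfl w hopen hred
    have hEw : GeomRedFlat5.E q (q.fiberι (closedPoint R) w) :=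
      (GeomRedFlat5.E_iff_of_isPullback hsq _).2 (by rw [hpw]; exact hE)
    have h := hρw.mem_open (GeomRedFlat5.isOpen_FE_noetherian q) ⟨hflat, hEw⟩
    have h2 := (GeomRedFlat5.E_iff_of_isPullback hsq _).1 h.2
    rwa [hpρ, hτg η hη] at h2

/-- Geometric reducedness in the fibre is a good fibrewise property. -/
theorem good_E : FibreLoc5.Good.{u} (fun _ _ f x => GeomRedFlat5.E f x) where
  baseChange := fun _ _ _ _ _ _ _ _ h _ z => GeomRedFlat5.E_iff_of_isPullback h z
  source := fun _ _ _ j f hj u => by haveI := hj; exact GeomRedFlat5.E_comp_openImmersion j f u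
  isOpen := fun _ _ f hf => by haveI := hf; exact GeomRedFlat5.isOpen_FE f

theorem isIndConstructible_of_isLocallyConstructible {X : Scheme.{u}} {T : Set X} (hT : IsLocallyConstructible T) :
    ProCons.IsIndConstructible T := fun _ =>
  ⟨Set.univ, isOpen_univ, trivial, {Subtype.val ⁻¹' T},
    fun S hS => by
      rw [Set.mem_singleton_iff.1 hS]
      exact hT.preimage_of_isOpenEmbedding isOpen_univ.isOpenEmbedding_subtypeVal,
    (Set.sUnion_singleton _).symm⟩

/-- Passing geometric irreducibility of the section component to a descended morphism. -/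
theorem GI_descend {XA A X₁ Y₁ : Scheme.{u}} {f : X ⟶ Y} {fA : XA ⟶ A} {f₁ : X₁ ⟶ Y₁} {s : Y ⟶ X} {sA : A ⟶ XA}
    {s₁ : Y₁ ⟶ X₁} {gA : XA ⟶ X} {πA : A ⟶ Y} {g' : XA ⟶ X₁} {π : A ⟶ Y₁}
    (hsqA : IsPullback gA fA f πA) (hsq : IsPullback g' fA f₁ π)
    (hSCA : MoreMor.sectionComponents fA sA = gA.base ⁻¹' MoreMor.sectionComponents f s)
    (hSC : MoreMor.sectionComponents fA sA = g'.base ⁻¹' MoreMor.sectionComponents f₁ s₁)
    (v : A) (h : GI f s (πA.base v)) : GI f₁ s₁ (π.base v) := by
  intro K _ _
  let φ : Y₁.residueField (π.base v) ⟶ CommRingCat.of K :=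
    CommRingCat.ofHom (algebraMap (IsLocalRing.ResidueField (Y₁.presheaf.stalk (π.base v))) K)
  let τK : Spec (CommRingCat.of K) ⟶ Y₁ := Spec.map φ ≫ Y₁.fromSpecResidueField (π.base v)
  have hτK : ∀ a, τK.base a = π.base v := fun a => Y₁.fromSpecResidueField_apply (π.base v) ((Spec.map φ).base a)
  obtain ⟨P, hP₁, hP₂⟩ := Scheme.Pullback.exists_preimage_pullback (f := τK) (g := π) (IsLocalRing.closedPoint K) v
    (hτK _)
  let L := (pullback τK π).residueField P
  let τL : Spec L ⟶ pullback τK π := (pullback τK π).fromSpecResidueField P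
  let e : Spec L ⟶ Spec (CommRingCat.of K) := τL ≫ pullback.fst τK π
  let τV : Spec L ⟶ A := τL ≫ pullback.snd τK π
  have heτ : e ≫ τK = τV ≫ π := by simp only [e, τV, Category.assoc, pullback.condition]
  have hτV : ∀ a, τV.base a = v := fun a => by
    show (pullback.snd τK π).base (τL.base a) = v
    rw [show τL.base a = P from (pullback τK π).fromSpecResidueField_apply P a]
    exact hP₂
  let τY : Spec L ⟶ Y := τV ≫ πA
  have hτY : ∀ a, τY.base a = πA.base v := fun a => congrArg πA.base (hτV a)
  have hirr := UnivOpen.isIrreducible_preimage_over f τY (IsLocalRing.closedPoint L) (hτY _) _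
    (connectedComponentIn_subset _ _) h
  let j : pullback f τY ⟶ XA := hsqA.lift (pullback.fst f τY) (pullback.snd f τY ≫ τV)
    (by rw [Category.assoc]; exact pullback.condition)
  have hj₁ : j ≫ gA = pullback.fst f τY := hsqA.lift_fst _ _ _
  have hj₂ : j ≫ fA = pullback.snd f τY ≫ τV := hsqA.lift_snd _ _ _
  have sqj : IsPullback j (pullback.snd f τY) fA τV :=
    IsPullback.of_right (by rw [hj₁]; exact IsPullback.of_hasPullback f τY) hj₂ hsqA
  let π₁ := FBase.bcπ (f₁.fiberToSpecResidueField (π.base v)) K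
  let s' := FBase.bcStr (f₁.fiberToSpecResidueField (π.base v)) K
  have sq₂ : IsPullback (π₁ ≫ f₁.fiberι (π.base v)) s' f₁ τK :=
    (IsPullback.of_hasPullback _ _ : IsPullback π₁ s' (f₁.fiberToSpecResidueField (π.base v)) (Spec.map φ)).paste_horiz
      (IsPullback.of_hasPullback f₁ (Y₁.fromSpecResidueField (π.base v)))
  let m : pullback f τY ⟶ FBase.bc (f₁.fiberToSpecResidueField (π.base v)) K :=
    sq₂.lift (j ≫ g') (pullback.snd f τY ≫ e)
      ((Category.assoc _ _ _).trans ((congrArg (j ≫ ·) hsq.w).trans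
        (((Category.assoc _ _ _).symm.trans (congrArg (· ≫ π) hj₂)).trans ((Category.assoc _ _ _).trans
          ((congrArg (pullback.snd f τY ≫ ·) heτ.symm).trans (Category.assoc _ _ _).symm)))))
  have hm₁ : m ≫ (π₁ ≫ f₁.fiberι (π.base v)) = j ≫ g' := sq₂.lift_fst _ _ _
  have hm₂ : m ≫ s' = pullback.snd f τY ≫ e := sq₂.lift_snd _ _ _
  have sqm : IsPullback m (pullback.snd f τY) s' e := by
    refine IsPullback.of_right ?_ hm₂ sq₂
    rw [hm₁, heτ]
    exact sqj.paste_horiz hsq
  have hmem : ∀ b, ((π₁ ≫ f₁.fiberι (π.base v)).base (m.base b) ∈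
      connectedComponentIn (f₁.base ⁻¹' {π.base v}) (s₁.base (π.base v)) ↔
      (pullback.fst f τY).base b ∈ connectedComponentIn (f.base ⁻¹' {πA.base v}) (s.base (πA.base v))) := fun b => by
    have h1 : (π₁ ≫ f₁.fiberι (π.base v)).base (m.base b) = g'.base (j.base b) :=
      congrArg (fun k : pullback f τY ⟶ X₁ => k.base b) hm₁
    have h2 : (pullback.fst f τY).base b = gA.base (j.base b) :=
      (congrArg (fun k : pullback f τY ⟶ X => k.base b) hj₁).symm
    have hb : fA.base (j.base b) = v :=
      (congrArg (fun k : pullback f τY ⟶ A => k.base b) hj₂).trans (hτV _)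
    have h3 : f₁.base (g'.base (j.base b)) = π.base v :=
      (congrArg (fun k : XA ⟶ Y₁ => k.base (j.base b)) hsq.w).trans (congrArg π.base hb)
    have h4 : f.base (gA.base (j.base b)) = πA.base v :=
      (congrArg (fun k : XA ⟶ Y => k.base (j.base b)) hsqA.w).trans (congrArg πA.base hb)
    have key := Set.ext_iff.1 (hSC.symm.trans hSCA) (j.base b)
    simp only [Set.mem_preimage, MoreMor.sectionComponents, Set.mem_setOf_eq] at key
    rw [h3, h4] at key
    rw [h1, h2]
    exact key
  have heq : (π₁ ≫ f₁.fiberι (π.base v)).base ⁻¹' connectedComponentIn (f₁.base ⁻¹' {π.base v}) (s₁.base (π.base v)) =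
      m.base '' {b : ↥(pullback f τY) | (pullback.snd f τY).base b = IsLocalRing.closedPoint L ∧
        (pullback.fst f τY).base b ∈ connectedComponentIn (f.base ⁻¹' {πA.base v}) (s.base (πA.base v))} := by
    ext a
    constructor
    · intro ha
      obtain ⟨b, hb, -⟩ := Scheme.exists_preimage_of_isPullback sqm a (IsLocalRing.closedPoint L)
        (Subsingleton.elim (α := PrimeSpectrum K) _ _)
      refine ⟨b, ⟨Subsingleton.elim (α := PrimeSpectrum L) _ _, (hmem b).1 ?_⟩, hb⟩
      rw [show m.base b = a from hb]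
      exact ha
    · rintro ⟨b, hb, rfl⟩
      exact (hmem b).2 hb.2
  exact heq ▸ hirr.image _ m.continuous.continuousOn

end Groth.Agent.Ega43Sect
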