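import Groth.Agent.Ega43Sect.GeomConnNear

/-!
# Geometric connectedness of the fibres near the generic one: assembly
-/

set_option autoImplicit false
set_option linter.style.haveILetI false

universe u

open TensorProduct AlgebraicGeometry CategoryTheory CategoryTheory.Limits

namespace Groth.Agent.Ega43Sect

/-- Connectedness spreads if the components of the generic geometric fibre are defined over the base. -/
theorem exists_connected_near_of_pieces {A : Type u} [CommRing A] [IsDomain A] {X : Scheme.{u}}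
    (F : X ⟶ Spec (CommRingCat.of A)) [LocallyOfFiniteType F] [CompactSpace ↥X] (Ω : Type u) [Field Ω]
    [IsAlgClosed Ω] [Algebra A Ω] [FaithfulSMul A Ω]
    (h : ConnectedSpace ↥(pullback F (Spec.map (CommRingCat.ofHom (algebraMap A Ω))))) {ι : Type u} [Finite ι]
    (Z : ι → Set ↥X) (hZ : ∀ k, IsClosed (Z k))
    (hirr : ∀ k, IsIrreducible ((pullback.fst F (Spec.map (CommRingCat.ofHom (algebraMap A Ω)))).base ⁻¹' Z k))
    (hcov : ∀ w, ∃ k, (pullback.fst F (Spec.map (CommRingCat.ofHom (algebraMap A Ω)))).base w ∈ Z k) :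
    ∃ c : A, c ≠ 0 ∧ ∀ (K : Type u) [Field K] [Algebra A K], algebraMap A K c ≠ 0 →
      ConnectedSpace ↥(pullback F (Spec.map (CommRingCat.ofHom (algebraMap A K)))) := by
  classical
  haveI := Fintype.ofFinite ι
  have h1 : ∀ k, ∃ c : A, c ≠ 0 ∧ ∀ (L : Type u) [Field L] [Algebra A L], algebraMap A L c ≠ 0 →
      IsIrreducible ((pullback.fst F (Spec.map (CommRingCat.ofHom (algebraMap A L)))).base ⁻¹' Z k) := fun k =>
    exists_isIrreducible_near F Ω (hZ k) (hirr k)
  have h2 : ∀ p : ι × ι, ∃ c : A, c ≠ 0 ∧ ∀ (L : Type u) [Field L] [Algebra A L], algebraMap A L c ≠ 0 →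
      (((pullback.fst F (Spec.map (CommRingCat.ofHom (algebraMap A Ω)))).base ⁻¹' (Z p.1 ∩ Z p.2)).Nonempty →
        ((pullback.fst F (Spec.map (CommRingCat.ofHom (algebraMap A L)))).base ⁻¹' (Z p.1 ∩ Z p.2)).Nonempty) :=
    fun p => exists_closed_nonempty_near F Ω ((hZ p.1).inter (hZ p.2))
  obtain ⟨c0, hc0, h0⟩ := exists_open_empty_near F Ω
  choose c1 hc1 h1 using h1
  choose c2 hc2 h2 using h2
  refine ⟨(∏ k, c1 k) * (∏ p, c2 p) * c0, mul_ne_zero (mul_ne_zero (Finset.prod_ne_zero_iff.2 fun k _ => hc1 k)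
    (Finset.prod_ne_zero_iff.2 fun p _ => hc2 p)) hc0, fun L _ _ hL => ?_⟩
  simp only [map_mul, map_prod, ne_eq, mul_eq_zero, not_or, Finset.prod_eq_zero_iff, Finset.mem_univ, true_and,
    not_exists] at hL
  obtain ⟨⟨hL1, hL2⟩, hL0⟩ := hL
  haveI := h
  refine connectedSpace_of_pieces
    (fun k => (pullback.fst F (Spec.map (CommRingCat.ofHom (algebraMap A Ω)))).base ⁻¹' Z k)
    (fun k => (hZ k).preimage (pullback.fst F (Spec.map (CommRingCat.ofHom (algebraMap A Ω)))).continuous)
    (fun k => (hirr k).nonempty) hcov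
    (fun k => (pullback.fst F (Spec.map (CommRingCat.ofHom (algebraMap A L)))).base ⁻¹' Z k)
    (fun k => (h1 k L (hL1 k)).isConnected) (fun z => ?_) fun k l hkl => ?_
  · by_contra hz
    push Not at hz
    refine h0 ⟨(⋃ k, Z k)ᶜ, (isClosed_iUnion_of_finite hZ).isOpen_compl⟩ (fun w hw => ?_) L hL0 z fun hm => ?_
    · obtain ⟨k, hk⟩ := hcov w
      exact hw (Set.mem_iUnion.2 ⟨k, hk⟩)
    · obtain ⟨k, hk⟩ := Set.mem_iUnion.1 hm
      exact hz k hk
  · rw [← Set.preimage_inter] at hkl ⊢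
    exact h2 (k, l) L (hL2 (k, l)) hkl

/-- The preimage of an irreducible set by an isomorphism is irreducible. -/
theorem isIrreducible_preimage_iso {P Q : Scheme.{u}} (e : P ≅ Q) {s : Set ↥Q} (hs : IsIrreducible s) :
    IsIrreducible (e.hom.base ⁻¹' s) := by
  have h : e.hom.base ⁻¹' s = e.inv.base '' s := by
    ext z
    constructor
    · exact fun hz => ⟨_, hz, congrArg (fun m => m.base z) e.hom_inv_id⟩
    · rintro ⟨w, hw, rfl⟩
      have h1 : e.hom.base (e.inv.base w) = w := congrArg (fun m => m.base w) e.inv_hom_id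
      show e.hom.base (e.inv.base w) ∈ s
      rw [h1]
      exact hw
  rw [h]
  exact hs.image _ e.inv.continuous.continuousOn

/-- Surjectivity of the map between base changes to two fields. -/
theorem connectedSpace_of_fieldHom {S : Scheme.{u}} {X : Scheme.{u}} (F : X ⟶ S) {K L : Type u} [Field K] [Field L]
    (φ : K →+* L) (y : Spec (CommRingCat.of K) ⟶ S) (y' : Spec (CommRingCat.of L) ⟶ S)
    (hy : y' = Spec.map (CommRingCat.ofHom φ) ≫ y) (h : ConnectedSpace ↥(pullback F y')) :
    ConnectedSpace ↥(pullback F y) := by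
  let m : pullback F y' ⟶ pullback F y :=
    pullback.map _ _ _ _ (𝟙 _) (Spec.map (CommRingCat.ofHom φ)) (𝟙 _) (by simp) (by rw [Category.comp_id, hy])
  have hm : Function.Surjective m.base := by
    rw [← Set.range_eq_univ, Scheme.Pullback.range_map]
    refine Set.eq_univ_of_forall fun z => ⟨⟨_, rfl⟩, ⟨IsLocalRing.closedPoint L, ?_⟩⟩
    exact Subsingleton.elim (α := PrimeSpectrum K) _ _
  exact hm.connectedSpace m.continuous

/-- Pulling back in two steps, compatibly with a comparison map. -/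
theorem exists_iso_comp_eq {S S₁ T X : Scheme.{u}} (F : X ⟶ S) (y₁ : S₁ ⟶ S) (y' : T ⟶ S₁) (y : T ⟶ S)
    (hy : y' ≫ y₁ = y) (t : pullback F y ⟶ pullback F y₁) (h1 : t ≫ pullback.fst F y₁ = pullback.fst F y ≫ 𝟙 X)
    (h2 : t ≫ pullback.snd F y₁ = pullback.snd F y ≫ y') :
    ∃ e : pullback (pullback.snd F y₁) y' ≅ pullback F y, e.hom ≫ t = pullback.fst (pullback.snd F y₁) y' := by
  subst hy
  refine ⟨pullbackLeftPullbackSndIso F y₁ y', ?_⟩
  apply pullback.hom_ext
  · rw [Category.assoc, h1, Category.comp_id, pullbackLeftPullbackSndIso_hom_fst]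
  · rw [Category.assoc, h2, pullbackLeftPullbackSndIso_hom_snd_assoc, pullback.condition]

/-- Geometric connectedness of the fibres near the generic one. -/
theorem exists_connectedSpace_near {A : Type u} [CommRing A] [IsDomain A] {X : Scheme.{u}}
    (F : X ⟶ Spec (CommRingCat.of A)) [LocallyOfFiniteType F] [CompactSpace ↥X] (Ω : Type u) [Field Ω]
    [IsAlgClosed Ω] [Algebra A Ω] [FaithfulSMul A Ω]
    (h : ConnectedSpace ↥(pullback F (Spec.map (CommRingCat.ofHom (algebraMap A Ω))))) :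
    ∃ c : A, c ≠ 0 ∧ ∀ (K : Type u) [Field K] [Algebra A K], algebraMap A K c ≠ 0 →
      ConnectedSpace ↥(pullback F (Spec.map (CommRingCat.ofHom (algebraMap A K)))) := by
  classical
  haveI : CompactSpace ↥(pullback F (Spec.map (CommRingCat.ofHom (algebraMap A Ω)))) :=
    QuasiCompact.compactSpace_of_compactSpace (pullback.snd F _)
  haveI : IsLocallyNoetherian (pullback F (Spec.map (CommRingCat.ofHom (algebraMap A Ω)))) :=
    LocallyOfFiniteType.isLocallyNoetherian (pullback.snd F _)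
  haveI : IsNoetherian (pullback F (Spec.map (CommRingCat.ofHom (algebraMap A Ω)))) := ⟨⟩
  haveI := (finite_irreducibleComponents_of_isNoetherian
    (X := pullback F (Spec.map (CommRingCat.ofHom (algebraMap A Ω))))).to_subtype
  haveI := Fintype.ofFinite ↥(irreducibleComponents ↥(pullback F (Spec.map (CommRingCat.ofHom (algebraMap A Ω)))))
  choose s hs using fun k : ↥(irreducibleComponents ↥(pullback F (Spec.map (CommRingCat.ofHom (algebraMap A Ω))))) =>
    exists_descend_closed F k.1 (isClosed_of_mem_irreducibleComponents _ k.2)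
  obtain ⟨A₁, hfg, hA₁⟩ : ∃ A₁ : Subalgebra A Ω, A₁.FG ∧ ∀ k, (s k : Set Ω) ⊆ A₁ :=
    ⟨Algebra.adjoin A ((Finset.univ.biUnion s : Finset Ω) : Set Ω), Subalgebra.fg_adjoin_finset _,
      fun k w hw => Algebra.subset_adjoin (Finset.mem_biUnion.2 ⟨k, Finset.mem_univ _, hw⟩)⟩
  haveI : FaithfulSMul A₁ Ω := (faithfulSMul_iff_algebraMap_injective _ _).2 Subtype.val_injective
  obtain ⟨y₁, hy₁⟩ : ∃ y₁, y₁ = Spec.map (CommRingCat.ofHom (algebraMap A A₁)) := ⟨_, rfl⟩
  have hy : Spec.map (CommRingCat.ofHom (algebraMap A₁ Ω)) ≫ Spec.map (CommRingCat.ofHom (algebraMap A A₁)) =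
      Spec.map (CommRingCat.ofHom (algebraMap A Ω)) := by
    rw [← Spec.map_comp, ← CommRingCat.ofHom_comp, ← IsScalarTower.algebraMap_eq]
  obtain ⟨e, he⟩ := exists_iso_comp_eq F (Spec.map (CommRingCat.ofHom (algebraMap A A₁)))
    (Spec.map (CommRingCat.ofHom (algebraMap A₁ Ω))) (Spec.map (CommRingCat.ofHom (algebraMap A Ω))) hy
    (toSub F A₁) (pullback.lift_fst _ _ _) (pullback.lift_snd _ _ _)
  haveI : CompactSpace ↥(pullback F (Spec.map (CommRingCat.ofHom (algebraMap A A₁)))) :=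
    QuasiCompact.compactSpace_of_compactSpace (pullback.snd F _)
  have hCZ : ∀ (k : ↥(irreducibleComponents ↥(pullback F (Spec.map (CommRingCat.ofHom (algebraMap A Ω)))))) z, (pullback.fst (pullback.snd F (Spec.map (CommRingCat.ofHom (algebraMap A A₁))))
      (Spec.map (CommRingCat.ofHom (algebraMap A₁ Ω)))).base z ∈ closure ((toSub F A₁).base '' k.1) ↔
        e.hom.base z ∈ k.1 := fun k z => by
    rw [← he]
    exact Set.ext_iff.1 (hs k A₁ (hA₁ k)) (e.hom.base z)
  haveI := h
  obtain ⟨c₁, hc₁, hconn⟩ := exists_connected_near_of_pieces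
    (pullback.snd F (Spec.map (CommRingCat.ofHom (algebraMap A A₁)))) Ω
    (e.inv.homeomorph.surjective.connectedSpace e.inv.continuous)
    (fun k : ↥(irreducibleComponents ↥(pullback F (Spec.map (CommRingCat.ofHom (algebraMap A Ω))))) => closure ((toSub F A₁).base '' k.1))
    (fun k => isClosed_closure)
    (fun k => by
      have h1 : IsIrreducible (e.hom.base ⁻¹' k.1) := isIrreducible_preimage_iso e k.2.1
      convert h1 using 1
      exact Set.ext (hCZ k))
    (fun w => ⟨⟨_, irreducibleComponent_mem_irreducibleComponents (e.hom.base w)⟩,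
      (hCZ _ w).2 mem_irreducibleComponent⟩)
  obtain ⟨c, hc, hdesc⟩ := exists_descend_field A₁ hfg hc₁
  refine ⟨c, hc, fun κ _ _ hκ => ?_⟩
  obtain ⟨L, _, φ₁, φκ, hL, hφ⟩ := hdesc κ hκ
  letI := φ₁.toAlgebra
  haveI := hconn L hL
  haveI : ConnectedSpace ↥(pullback F (Spec.map (CommRingCat.ofHom φ₁) ≫
      Spec.map (CommRingCat.ofHom (algebraMap A A₁)))) :=
    (pullbackLeftPullbackSndIso F (Spec.map (CommRingCat.ofHom (algebraMap A A₁)))
      (Spec.map (CommRingCat.ofHom φ₁))).hom.homeomorph.surjective.connectedSpace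
      (pullbackLeftPullbackSndIso F _ _).hom.continuous
  refine connectedSpace_of_fieldHom F φκ _ _ ?_ this
  rw [← Spec.map_comp, ← Spec.map_comp, ← CommRingCat.ofHom_comp, ← CommRingCat.ofHom_comp, hφ]

end Groth.Agent.Ega43Sect
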