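import Groth.Agent.Ega43Sect.GeomNear
import Groth.Agent.H23.RedSub

/-!
# Geometric connectedness of the fibres near the generic one
-/

set_option autoImplicit false
set_option linter.style.haveILetI false
set_option maxHeartbeats 800000

universe u

open TensorProduct AlgebraicGeometry CategoryTheory CategoryTheory.Limits

namespace Groth.Agent.Ega43Sect

/-- An affine open gives charts of all base changes, natural in the base. -/
theorem exists_chart_natural {A : Type u} [CommRing A] {X : Scheme.{u}} (F : X ⟶ Spec (CommRingCat.of A))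
    [LocallyOfFiniteType F] (U : X.Opens) (hU : IsAffineOpen U) :
    ∃ (B : Type u) (_ : CommRing B) (_ : Algebra A B) (g : Spec (CommRingCat.of B) ⟶ X), Algebra.FiniteType A B ∧
      ∀ (R : Type u) [CommRing R] [Algebra A R],
        ∃ j : Spec (CommRingCat.of (R ⊗[A] B)) ⟶ pullback F (Spec.map (CommRingCat.ofHom (algebraMap A R))),
          Topology.IsOpenEmbedding j.base ∧
            Set.range j.base = (pullback.fst F (Spec.map (CommRingCat.ofHom (algebraMap A R)))).base ⁻¹' (U : Set ↥X) ∧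
            j ≫ pullback.fst _ _ =
              Spec.map (CommRingCat.ofHom (Algebra.TensorProduct.includeRight : B →ₐ[A] R ⊗[A] B).toRingHom) ≫ g ∧
            j ≫ pullback.snd _ _ =
              Spec.map (CommRingCat.ofHom (Algebra.TensorProduct.includeLeftRingHom : R →+* R ⊗[A] B)) := by
  obtain ⟨φ, hφ⟩ := Spec.map_surjective (hU.fromSpec ≫ F)
  let B : Type u := ↥Γ(X, U)
  letI : Algebra A B := φ.hom.toAlgebra
  have hφ' : Spec.map (CommRingCat.ofHom (algebraMap A B)) = hU.fromSpec ≫ F := hφ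
  refine ⟨B, inferInstance, inferInstance, hU.fromSpec, ?_, fun R _ _ => ?_⟩
  · have h : LocallyOfFiniteType (Spec.map φ) := by rw [hφ]; infer_instance
    exact (HasRingHomProperty.Spec_iff (P := @LocallyOfFiniteType)).mp h
  let y := Spec.map (CommRingCat.ofHom (algebraMap A R))
  let i := pullback.map (Spec.map (CommRingCat.ofHom (algebraMap A B))) y F y hU.fromSpec (𝟙 _) (𝟙 _)
    (by rw [Category.comp_id, hφ']) (by simp)
  let σ := Spec.map (CommRingCat.ofHom (Algebra.TensorProduct.comm A B R).toRingEquiv.toRingHom)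
  haveI : IsIso σ := by
    haveI : IsIso (CommRingCat.ofHom (Algebra.TensorProduct.comm A B R).toRingEquiv.toRingHom) :=
      (Algebra.TensorProduct.comm A B R).toRingEquiv.toCommRingCatIso.isIso_hom
    infer_instance
  let j := σ ≫ (pullbackSpecIso A B R).inv ≫ i
  refine ⟨j, j.isOpenEmbedding, ?_, ?_, ?_⟩
  · show Set.range (⇑i.base ∘ ⇑(σ ≫ (pullbackSpecIso A B R).inv).homeomorph) = _
    rw [Function.Surjective.range_comp (σ ≫ (pullbackSpecIso A B R).inv).homeomorph.surjective,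
      Scheme.Pullback.range_map, hU.range_fromSpec]
    simp
    rfl
  · simp only [j, σ, i, y, Category.assoc, pullback.lift_fst]
    rw [pullbackSpecIso_inv_fst_assoc, ← Category.assoc, ← Spec.map_comp]
    rfl
  · simp only [j, σ, i, y, Category.assoc, pullback.lift_snd, Category.comp_id]
    rw [pullbackSpecIso_inv_snd, ← Spec.map_comp]
    rfl

/-- Finitely many elements of a scalar extension come from a finitely generated subalgebra. -/
theorem exists_descend_finset {A B Ω : Type u} [CommRing A] [CommRing B] [Algebra A B] [CommRing Ω] [Algebra A Ω]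
    (G : Finset (Ω ⊗[A] B)) :
    ∃ s : Finset Ω, ∀ A₁ : Subalgebra A Ω, (s : Set Ω) ⊆ A₁ →
      ∀ g ∈ G, ∃ h : A₁ ⊗[A] B, Algebra.TensorProduct.map A₁.val (AlgHom.id A B) h = g := by
  classical
  have h : ∀ z : Ω ⊗[A] B, ∃ s : Finset Ω, ∀ A₁ : Subalgebra A Ω, (s : Set Ω) ⊆ A₁ →
      ∃ h : A₁ ⊗[A] B, Algebra.TensorProduct.map A₁.val (AlgHom.id A B) h = z := fun z => by
    induction z with
    | zero => exact ⟨∅, fun A₁ _ => ⟨0, map_zero _⟩⟩
    | tmul w b => exact ⟨{w}, fun A₁ hA => ⟨(⟨w, hA (by simp)⟩ : A₁) ⊗ₜ b, rfl⟩⟩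
    | add a b ha hb =>
      obtain ⟨s, hs⟩ := ha
      obtain ⟨t, ht⟩ := hb
      refine ⟨s ∪ t, fun A₁ hA => ?_⟩
      obtain ⟨x, hx⟩ := hs A₁ fun w hw => hA (Finset.mem_union_left _ hw)
      obtain ⟨y, hy⟩ := ht A₁ fun w hw => hA (Finset.mem_union_right _ hw)
      exact ⟨x + y, by rw [map_add, hx, hy]⟩
  choose s hs using h
  exact ⟨G.biUnion s, fun A₁ hA g hg => hs g A₁ fun w hw => hA (Finset.mem_biUnion.2 ⟨g, hg, hw⟩)⟩

/-- The map from the base change to a ring to the base change to a subring. -/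
noncomputable def toSub {A : Type u} [CommRing A] {X : Scheme.{u}} (F : X ⟶ Spec (CommRingCat.of A)) {Ω : Type u}
    [CommRing Ω] [Algebra A Ω] (A₁ : Subalgebra A Ω) :
    pullback F (Spec.map (CommRingCat.ofHom (algebraMap A Ω))) ⟶
      pullback F (Spec.map (CommRingCat.ofHom (algebraMap A A₁))) :=
  pullback.map _ _ _ _ (𝟙 _) (Spec.map (CommRingCat.ofHom A₁.val.toRingHom)) (𝟙 _) (by simp)
    (by rw [Category.comp_id, ← Spec.map_comp]; rfl)

/-- A closed subset of a base change to a field comes from a finitely generated subalgebra. -/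
theorem exists_descend_closed {A : Type u} [CommRing A] {X : Scheme.{u}} (F : X ⟶ Spec (CommRingCat.of A))
    [LocallyOfFiniteType F] [CompactSpace ↥X] {Ω : Type u} [Field Ω] [Algebra A Ω]
    (C : Set ↥(pullback F (Spec.map (CommRingCat.ofHom (algebraMap A Ω))))) (hC : IsClosed C) :
    ∃ s : Finset Ω, ∀ A₁ : Subalgebra A Ω, (s : Set Ω) ⊆ A₁ →
      (toSub F A₁).base ⁻¹' closure ((toSub F A₁).base '' C) = C := by
  classical
  have hcov : ∀ x : X, ∃ U : X.Opens, IsAffineOpen U ∧ x ∈ U := fun x => by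
    obtain ⟨U, hU, hxU, -⟩ := exists_isAffineOpen_mem_and_subset (x := x) (U := (⊤ : X.Opens)) (by simp)
    exact ⟨U, hU, hxU⟩
  choose U hU hxU using hcov
  obtain ⟨t, ht⟩ := isCompact_univ.elim_finite_subcover (fun x => (U x : Set X)) (fun x => (U x).isOpen)
    (fun x _ => Set.mem_iUnion.2 ⟨x, hxU x⟩)
  have h : ∀ i : ↥t, ∃ s : Finset Ω, ∀ A₁ : Subalgebra A Ω, (s : Set Ω) ⊆ A₁ →
      ∀ z, (pullback.fst F (Spec.map (CommRingCat.ofHom (algebraMap A Ω)))).base z ∈ U i →
        (toSub F A₁).base z ∈ closure ((toSub F A₁).base '' C) → z ∈ C := fun i => by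
    obtain ⟨B, _, _, g, hft, hj⟩ := exists_chart_natural F (U i) (hU i)
    haveI := hft
    obtain ⟨jΩ, hjΩ, hrΩ, hfΩ, hsΩ⟩ := hj Ω
    obtain ⟨I, hI⟩ := (PrimeSpectrum.isClosed_iff_zeroLocus_ideal _).1 (hC.preimage jΩ.continuous)
    haveI : IsNoetherianRing (Ω ⊗[A] B) := Algebra.FiniteType.isNoetherianRing Ω _
    obtain ⟨G, rfl⟩ := IsNoetherian.noetherian I
    rw [PrimeSpectrum.zeroLocus_span] at hI
    obtain ⟨s, hs⟩ := exists_descend_finset G
    refine ⟨s, fun A₁ hA z hzU hz => ?_⟩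
    choose H hH using hs A₁ hA
    obtain ⟨j, hje, hr, hf, hs'⟩ := hj A₁
    let ψ : A₁ ⊗[A] B →ₐ[A] Ω ⊗[A] B := Algebra.TensorProduct.map A₁.val (AlgHom.id A B)
    have hnat : jΩ ≫ toSub F A₁ = Spec.map (CommRingCat.ofHom ψ.toRingHom) ≫ j := by
      apply pullback.hom_ext
      · rw [Category.assoc, Category.assoc, hf, toSub, pullback.lift_fst, Category.comp_id, hfΩ, ← Category.assoc,
          ← Spec.map_comp]
        congr 2
      · rw [Category.assoc, Category.assoc, hs', toSub, pullback.lift_snd, ← Category.assoc, hsΩ, ← Spec.map_comp,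
          ← Spec.map_comp]
        congr 1
    have hnat' : ∀ p, (toSub F A₁).base (jΩ.base p) = j.base (PrimeSpectrum.comap ψ.toRingHom p) := fun p =>
      congrArg (fun h => h.base p) hnat
    obtain ⟨p, rfl⟩ : z ∈ Set.range jΩ.base := hrΩ.ge hzU
    rw [hnat'] at hz
    have hsub : j.base ⁻¹' ((toSub F A₁).base '' C) ⊆
        PrimeSpectrum.zeroLocus (Set.range fun g : ↥G => H g.1 g.2) := by
      rintro q ⟨w, hw, hwq⟩
      have hwU : w ∈ Set.range jΩ.base := by
        rw [hrΩ]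
        have h1 : j.base q ∈ (pullback.fst F (Spec.map (CommRingCat.ofHom (algebraMap A A₁)))).base ⁻¹' (U i : Set X) :=
          hr.le ⟨q, rfl⟩
        rw [← hwq] at h1
        have h2 : (toSub F A₁ ≫ pullback.fst _ _).base w ∈ U i := h1
        rwa [toSub, pullback.lift_fst, Category.comp_id] at h2
      obtain ⟨p', rfl⟩ := hwU
      rw [hnat'] at hwq
      obtain rfl := hje.injective hwq
      rintro _ ⟨⟨g, hg⟩, rfl⟩
      show ψ (H g hg) ∈ p'.asIdeal
      rw [show ψ (H g hg) = g from hH g hg]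
      exact (hI.le hw : p' ∈ PrimeSpectrum.zeroLocus (G : Set (Ω ⊗[A] B))) hg
    have hp : PrimeSpectrum.comap ψ.toRingHom p ∈ closure (j.base ⁻¹' ((toSub F A₁).base '' C)) := by
      rw [← hje.isOpenMap.preimage_closure_eq_closure_preimage hje.continuous]
      exact hz
    have hp' := closure_minimal hsub (PrimeSpectrum.isClosed_zeroLocus _) hp
    refine (hI.ge (fun g hg => ?_) : p ∈ ⇑jΩ.base ⁻¹' C)
    have h3 : ψ (H g hg) ∈ p.asIdeal := hp' ⟨⟨g, hg⟩, rfl⟩
    rwa [show ψ (H g hg) = g from hH g hg] at h3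
  choose s hs using h
  refine ⟨Finset.univ.biUnion s, fun A₁ hA => Set.Subset.antisymm (fun z hz => ?_) fun z hz => subset_closure ⟨z, hz, rfl⟩⟩
  obtain ⟨i, hi, hzi⟩ := Set.mem_iUnion₂.1
    (ht (Set.mem_univ ((pullback.fst F (Spec.map (CommRingCat.ofHom (algebraMap A Ω)))).base z)))
  exact hs ⟨i, hi⟩ A₁ (fun w hw => hA (Finset.mem_biUnion.2 ⟨⟨i, hi⟩, Finset.mem_univ _, hw⟩)) z hzi hz

/-- Whether a locally closed subset meets the fibre is constant near the generic point. -/
theorem exists_nonempty_near {A : Type u} [CommRing A] [IsDomain A] {X : Scheme.{u}}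
    (F : X ⟶ Spec (CommRingCat.of A)) [LocallyOfFiniteType F] [CompactSpace ↥X] (Ω : Type u) [Field Ω] [Algebra A Ω]
    [FaithfulSMul A Ω] :
    ∃ c : A, c ≠ 0 ∧ ∀ (K : Type u) [Field K] [Algebra A K], algebraMap A K c ≠ 0 →
      (Nonempty ↥(pullback F (Spec.map (CommRingCat.ofHom (algebraMap A K)))) ↔
        Nonempty ↥(pullback F (Spec.map (CommRingCat.ofHom (algebraMap A Ω))))) := by
  classical
  have hcov : ∀ x : X, ∃ U : X.Opens, IsAffineOpen U ∧ x ∈ U := fun x => by
    obtain ⟨U, hU, hxU, -⟩ := exists_isAffineOpen_mem_and_subset (x := x) (U := (⊤ : X.Opens)) (by simp)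
    exact ⟨U, hU, hxU⟩
  choose U hU hxU using hcov
  obtain ⟨t, ht⟩ := isCompact_univ.elim_finite_subcover (fun x => (U x : Set X)) (fun x => (U x).isOpen)
    (fun x _ => Set.mem_iUnion.2 ⟨x, hxU x⟩)
  have h : ∀ i : ↥t, ∃ c : A, c ≠ 0 ∧ ∀ (K : Type u) [Field K] [Algebra A K], algebraMap A K c ≠ 0 →
      ((∃ z, (pullback.fst F (Spec.map (CommRingCat.ofHom (algebraMap A K)))).base z ∈ U i) ↔
        ∃ z, (pullback.fst F (Spec.map (CommRingCat.ofHom (algebraMap A Ω)))).base z ∈ U i) := fun i => by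
    obtain ⟨B, _, _, hft, hj⟩ := exists_chart F (U i) (hU i)
    haveI := hft
    obtain ⟨c, hc, hne⟩ := exists_nontrivial_near (A := A) (B := B) Ω
    refine ⟨c, hc, fun K _ _ hK => ?_⟩
    have key : ∀ (L : Type u) [Field L] [Algebra A L], Nontrivial (L ⊗[A] B) ↔
        ∃ z, (pullback.fst F (Spec.map (CommRingCat.ofHom (algebraMap A L)))).base z ∈ U i := fun L _ _ => by
      obtain ⟨j, -, hr⟩ := hj L
      rw [← PrimeSpectrum.nonempty_iff_nontrivial]
      exact ⟨fun ⟨q⟩ => ⟨j q, hr.le ⟨q, rfl⟩⟩, fun ⟨z, hz⟩ => by obtain ⟨q, -⟩ := hr.ge hz; exact ⟨q⟩⟩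
    exact (key K).symm.trans ((hne K hK).trans (key Ω))
  choose c hc h using h
  refine ⟨∏ i, c i, Finset.prod_ne_zero_iff.2 fun i _ => hc i, fun K _ _ hK => ?_⟩
  rw [map_prod, Finset.prod_ne_zero_iff] at hK
  constructor
  · rintro ⟨z⟩
    obtain ⟨i, hi, hzi⟩ := Set.mem_iUnion₂.1
      (ht (Set.mem_univ ((pullback.fst F (Spec.map (CommRingCat.ofHom (algebraMap A K)))).base z)))
    obtain ⟨w, -⟩ := (h ⟨i, hi⟩ K (hK _ (Finset.mem_univ _))).1 ⟨z, hzi⟩
    exact ⟨w⟩
  · rintro ⟨z⟩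
    obtain ⟨i, hi, hzi⟩ := Set.mem_iUnion₂.1
      (ht (Set.mem_univ ((pullback.fst F (Spec.map (CommRingCat.ofHom (algebraMap A Ω)))).base z)))
    obtain ⟨w, -⟩ := (h ⟨i, hi⟩ K (hK _ (Finset.mem_univ _))).2 ⟨z, hzi⟩
    exact ⟨w⟩

/-- An open subset missing the generic fibre misses the fibres near it. -/
theorem exists_open_empty_near {A : Type u} [CommRing A] [IsDomain A] {X : Scheme.{u}}
    (F : X ⟶ Spec (CommRingCat.of A)) [LocallyOfFiniteType F] [CompactSpace ↥X] (Ω : Type u) [Field Ω] [Algebra A Ω]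
    [FaithfulSMul A Ω] :
    ∃ c : A, c ≠ 0 ∧ ∀ O : X.Opens,
      (∀ z, (pullback.fst F (Spec.map (CommRingCat.ofHom (algebraMap A Ω)))).base z ∉ O) →
      ∀ (K : Type u) [Field K] [Algebra A K], algebraMap A K c ≠ 0 →
        ∀ z, (pullback.fst F (Spec.map (CommRingCat.ofHom (algebraMap A K)))).base z ∉ O := by
  classical
  letI : Algebra (FractionRing A) Ω :=
    (IsFractionRing.lift (A := A) (g := algebraMap A Ω) (FaithfulSMul.algebraMap_injective A Ω)).toAlgebra
  haveI : IsScalarTower A (FractionRing A) Ω := IsScalarTower.of_algebraMap_eq fun a =>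
    (IsFractionRing.lift_algebraMap (A := A) (g := algebraMap A Ω) (FaithfulSMul.algebraMap_injective A Ω) a).symm
  have hcov : ∀ x : X, ∃ U : X.Opens, IsAffineOpen U ∧ x ∈ U := fun x => by
    obtain ⟨U, hU, hxU, -⟩ := exists_isAffineOpen_mem_and_subset (x := x) (U := (⊤ : X.Opens)) (by simp)
    exact ⟨U, hU, hxU⟩
  choose U hU hxU using hcov
  obtain ⟨t, ht⟩ := isCompact_univ.elim_finite_subcover (fun x => (U x : Set X)) (fun x => (U x).isOpen)
    (fun x _ => Set.mem_iUnion.2 ⟨x, hxU x⟩)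
  have h : ∀ i : ↥t, ∃ c : A, c ≠ 0 ∧ ∀ O : X.Opens,
      (∀ z, (pullback.fst F (Spec.map (CommRingCat.ofHom (algebraMap A Ω)))).base z ∉ O) →
      ∀ (K : Type u) [Field K] [Algebra A K], algebraMap A K c ≠ 0 →
        ∀ z, (pullback.fst F (Spec.map (CommRingCat.ofHom (algebraMap A K)))).base z ∈ U i →
          (pullback.fst F (Spec.map (CommRingCat.ofHom (algebraMap A K)))).base z ∉ O := fun i => by
    obtain ⟨B, _, _, g, hft, hj⟩ := exists_chart_natural F (U i) (hU i)
    haveI := hft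
    obtain ⟨e, he, -, hgood, -, -⟩ := GenFreeRed.exists_isGood A B B 1 one_ne_zero
    rw [one_mul] at he hgood
    haveI := hgood
    refine ⟨e, he, fun O hO K _ _ hK z hzU hzO => ?_⟩
    obtain ⟨j, hje, hr, hf, -⟩ := hj K
    obtain ⟨jΩ, -, -, hfΩ, -⟩ := hj Ω
    obtain ⟨q, rfl⟩ : z ∈ Set.range j.base := hr.ge hzU
    have hq : g.base (PrimeSpectrum.comap (Algebra.TensorProduct.includeRight : B →ₐ[A] K ⊗[A] B).toRingHom q) ∈ O := by
      have h1 := congrArg (fun m => m.base q) hf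
      simp only [Scheme.Hom.comp_base, TopCat.comp_app] at h1
      exact h1 ▸ hzO
    obtain ⟨_, ⟨b, rfl⟩, hb1, hb2⟩ := PrimeSpectrum.isTopologicalBasis_basic_opens.exists_subset_of_mem_open hq
      (O.isOpen.preimage g.continuous)
    have hnil : IsNilpotent ((1 : Ω) ⊗ₜ[A] b) := by
      refine nilpotent_iff_mem_prime.2 fun P hP => by_contra fun hbP => ?_
      refine hO (jΩ.base (⟨P, hP⟩ : PrimeSpectrum (Ω ⊗[A] B))) ?_
      have h1 := congrArg (fun m => m.base (⟨P, hP⟩ : PrimeSpectrum (Ω ⊗[A] B))) hfΩ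
      simp only [Scheme.Hom.comp_base, TopCat.comp_app] at h1
      exact h1.symm ▸ hb2 hbP
    obtain ⟨n, hn⟩ := hnil
    rw [Algebra.TensorProduct.tmul_pow, one_pow] at hn
    obtain ⟨a, ha, hab⟩ := FlatMisc.SpreadRed.exists_smul_eq_zero (R := A) (S := B) (FractionRing A) (g := b ^ n)
      (FlatMisc.SpreadRed.map_injective_of_fields (FractionRing A) Ω B
        (by rw [map_zero, Algebra.TensorProduct.map_tmul, map_one, AlgHom.id_apply, hn]))
    have h0 := tmul_eq_zero_near he ha _ hab K hK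
    refine hb1 ?_
    show (1 : K) ⊗ₜ[A] b ∈ q.asIdeal
    refine q.isPrime.mem_of_pow_mem n ?_
    rw [Algebra.TensorProduct.tmul_pow, one_pow, h0]
    exact Ideal.zero_mem _
  choose c hc h using h
  refine ⟨∏ i, c i, Finset.prod_ne_zero_iff.2 fun i _ => hc i, fun O hO K _ _ hK z => ?_⟩
  rw [map_prod, Finset.prod_ne_zero_iff] at hK
  obtain ⟨i, hi, hzi⟩ := Set.mem_iUnion₂.1
    (ht (Set.mem_univ ((pullback.fst F (Spec.map (CommRingCat.ofHom (algebraMap A K)))).base z)))
  exact h ⟨i, hi⟩ O hO K (hK _ (Finset.mem_univ _)) z hzi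

/-- The base change of a closed subscheme and its underlying set. -/
theorem range_subscheme {X W S T : Scheme.{u}} (F : X ⟶ S) (i : W ⟶ X) [IsClosedImmersion i] (y : T ⟶ S) :
    ∃ e : ↥(pullback (i ≫ F) y) → ↥(pullback F y),
      Topology.IsInducing e ∧ Set.range e = (pullback.fst F y).base ⁻¹' Set.range i.base := by
  let φ := (pullbackRightPullbackFstIso F y i).inv ≫ pullback.snd i (pullback.fst F y)
  refine ⟨φ.base, φ.isClosedEmbedding.isInducing, ?_⟩
  show Set.range (⇑(pullback.snd i (pullback.fst F y)).base ∘ ⇑(pullbackRightPullbackFstIso F y i).inv.homeomorph) = _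
  rw [Function.Surjective.range_comp (pullbackRightPullbackFstIso F y i).inv.homeomorph.surjective,
    Scheme.Pullback.range_snd]

/-- An inducing map from a space has irreducible range iff the space is irreducible. -/
theorem isIrreducible_range_iff {T T' : Type*} [TopologicalSpace T] [TopologicalSpace T'] {e : T → T'}
    (he : Topology.IsInducing e) : IsIrreducible (Set.range e) ↔ IrreducibleSpace T := by
  constructor
  · rintro ⟨⟨_, ⟨x, rfl⟩⟩, hp⟩
    haveI : Nonempty T := ⟨x⟩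
    haveI : PreirreducibleSpace T := ⟨fun W W' hW hW' hx hx' => by
      obtain ⟨a, -, ha⟩ := hx
      obtain ⟨b, -, hb⟩ := hx'
      obtain ⟨V, hV, rfl⟩ := he.isOpen_iff.1 hW
      obtain ⟨V', hV', rfl⟩ := he.isOpen_iff.1 hW'
      obtain ⟨_, ⟨c, rfl⟩, hc, hc'⟩ := hp V V' hV hV' ⟨e a, ⟨a, rfl⟩, ha⟩ ⟨e b, ⟨b, rfl⟩, hb⟩
      exact ⟨c, trivial, hc, hc'⟩⟩
    exact ⟨inferInstance⟩
  · intro h
    rw [← Set.image_univ]
    exact (IrreducibleSpace.isIrreducible_univ T).image e he.continuous.continuousOn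

/-- A closed subset with geometrically irreducible generic fibre has geometrically irreducible fibres nearby. -/
theorem exists_isIrreducible_near {A : Type u} [CommRing A] [IsDomain A] {X : Scheme.{u}}
    (F : X ⟶ Spec (CommRingCat.of A)) [LocallyOfFiniteType F] [CompactSpace ↥X] (Ω : Type u) [Field Ω] [IsAlgClosed Ω]
    [Algebra A Ω] [FaithfulSMul A Ω] {Z : Set ↥X} (hZ : IsClosed Z)
    (h : IsIrreducible ((pullback.fst F (Spec.map (CommRingCat.ofHom (algebraMap A Ω)))).base ⁻¹' Z)) :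
    ∃ c : A, c ≠ 0 ∧ ∀ (K : Type u) [Field K] [Algebra A K], algebraMap A K c ≠ 0 →
      IsIrreducible ((pullback.fst F (Spec.map (CommRingCat.ofHom (algebraMap A K)))).base ⁻¹' Z) := by
  obtain ⟨W, i, hi, -, hr⟩ := H23.RedSub.exists_reduced_subscheme X hZ.isLocallyClosed
  haveI := hi
  haveI : IsClosedImmersion i := IsClosedImmersion.of_isPreimmersion i (by rw [hr]; exact hZ)
  haveI : CompactSpace ↥W := i.isClosedEmbedding.compactSpace
  obtain ⟨eΩ, heΩ, hrΩ⟩ := range_subscheme F i (Spec.map (CommRingCat.ofHom (algebraMap A Ω)))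
  obtain ⟨c, hc, hnear⟩ := exists_irreducibleSpace_near (i ≫ F) Ω
    ((isIrreducible_range_iff heΩ).1 (by rw [hrΩ, hr]; exact h))
  refine ⟨c, hc, fun K _ _ hK => ?_⟩
  obtain ⟨e, he, hre⟩ := range_subscheme F i (Spec.map (CommRingCat.ofHom (algebraMap A K)))
  rw [← hr, ← hre]
  exact (isIrreducible_range_iff he).2 (hnear K hK)

/-- Whether a closed subset meets the fibres is constant near the generic one. -/
theorem exists_closed_nonempty_near {A : Type u} [CommRing A] [IsDomain A] {X : Scheme.{u}}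
    (F : X ⟶ Spec (CommRingCat.of A)) [LocallyOfFiniteType F] [CompactSpace ↥X] (Ω : Type u) [Field Ω]
    [Algebra A Ω] [FaithfulSMul A Ω] {Z : Set ↥X} (hZ : IsClosed Z) :
    ∃ c : A, c ≠ 0 ∧ ∀ (K : Type u) [Field K] [Algebra A K], algebraMap A K c ≠ 0 →
      (((pullback.fst F (Spec.map (CommRingCat.ofHom (algebraMap A Ω)))).base ⁻¹' Z).Nonempty →
        ((pullback.fst F (Spec.map (CommRingCat.ofHom (algebraMap A K)))).base ⁻¹' Z).Nonempty) := by
  obtain ⟨W, i, hi, -, hr⟩ := H23.RedSub.exists_reduced_subscheme X hZ.isLocallyClosed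
  haveI := hi
  haveI : IsClosedImmersion i := IsClosedImmersion.of_isPreimmersion i (by rw [hr]; exact hZ)
  haveI : CompactSpace ↥W := i.isClosedEmbedding.compactSpace
  obtain ⟨c, hc, hnear⟩ := exists_nonempty_near (i ≫ F) Ω
  refine ⟨c, hc, fun K _ _ hK h => ?_⟩
  obtain ⟨eΩ, -, hrΩ⟩ := range_subscheme F i (Spec.map (CommRingCat.ofHom (algebraMap A Ω)))
  obtain ⟨e, -, hre⟩ := range_subscheme F i (Spec.map (CommRingCat.ofHom (algebraMap A K)))
  rw [← hr, ← hrΩ] at h
  obtain ⟨_, w, -⟩ := h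
  obtain ⟨w'⟩ := (hnear K hK).2 ⟨w⟩
  rw [← hr, ← hre]
  exact ⟨e w', w', rfl⟩

/-- A finitely generated subalgebra of a field extension can be reached by field extensions near the generic point. -/
theorem exists_descend_field {A Ω : Type u} [CommRing A] [IsDomain A] [Field Ω] [Algebra A Ω] [FaithfulSMul A Ω]
    (A₁ : Subalgebra A Ω) (hfg : A₁.FG) {c₁ : A₁} (hc₁ : c₁ ≠ 0) :
    ∃ c : A, c ≠ 0 ∧ ∀ (κ : Type u) [Field κ] [Algebra A κ], algebraMap A κ c ≠ 0 →
      ∃ (F : Type u) (_ : Field F) (φ₁ : A₁ →+* F) (φκ : κ →+* F),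
        φ₁ c₁ ≠ 0 ∧ φκ.comp (algebraMap A κ) = φ₁.comp (algebraMap A A₁) := by
  haveI : Algebra.FiniteType A A₁ := (Subalgebra.fg_iff_finiteType _).1 hfg
  let A₂ := Localization.Away c₁
  haveI : Algebra.FiniteType A₁ A₂ := IsLocalization.finiteType_of_monoid_fg (Submonoid.powers c₁) A₂
  haveI : Algebra.FiniteType A A₂ := Algebra.FiniteType.trans (R := A) (S := A₁) inferInstance inferInstance
  haveI : IsDomain A₂ := IsLocalization.isDomain_localization (powers_le_nonZeroDivisors_of_noZeroDivisors hc₁)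
  have hAA : Function.Injective (algebraMap A A₂) := by
    rw [IsScalarTower.algebraMap_eq A A₁ A₂]
    refine (IsLocalization.injective A₂ (powers_le_nonZeroDivisors_of_noZeroDivisors hc₁)).comp ?_
    exact fun a b hab => FaithfulSMul.algebraMap_injective A Ω (congrArg Subtype.val hab)
  obtain ⟨c, hc, hq⟩ := GenImage.exists_basicOpen_subset_range hAA
  refine ⟨c, hc, fun κ _ _ hκ => ?_⟩
  let p := RingHom.ker (algebraMap A κ)
  haveI : p.IsPrime := RingHom.ker_isPrime _
  obtain ⟨q, hqp, hqc⟩ := hq ⟨p, inferInstance⟩ hκ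
  haveI := hqp
  let j := Ideal.ResidueField.map p q (algebraMap A A₂) hqc.symm
  let i : p.ResidueField →+* κ := IsFractionRing.lift (A := A ⧸ p) (g := (algebraMap A κ).kerLift)
    (RingHom.kerLift_injective _)
  letI := j.toAlgebra
  letI := i.toAlgebra
  obtain ⟨F, _, eκ, eq, he⟩ := FibDim.exists_fieldCompositum p.ResidueField κ q.ResidueField
  refine ⟨F, inferInstance, eq.comp ((algebraMap A₂ q.ResidueField).comp (algebraMap A₁ A₂)), eκ,
    (((IsLocalization.Away.algebraMap_isUnit (S := A₂) c₁).map (algebraMap A₂ q.ResidueField)).map eq).ne_zero,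
    RingHom.ext fun a => ?_⟩
  have h1 : algebraMap p.ResidueField κ (algebraMap A p.ResidueField a) = algebraMap A κ a := by
    show i (algebraMap (A ⧸ p) p.ResidueField (Ideal.Quotient.mk p a)) = _
    rw [IsFractionRing.lift_algebraMap]
    exact RingHom.kerLift_mk _ a
  show eκ (algebraMap A κ a) = eq (algebraMap A₂ q.ResidueField (algebraMap A₁ A₂ (algebraMap A A₁ a)))
  rw [← IsScalarTower.algebraMap_apply A A₁ A₂, ← h1, he]
  show eq (j (algebraMap A p.ResidueField a)) = _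
  rw [Ideal.ResidueField.map_algebraMap]

/-- A space is connected if it has a cover by preconnected pieces meeting as the components of a connected space. -/
theorem connectedSpace_of_pieces {T T' ι : Type*} [TopologicalSpace T] [TopologicalSpace T'] [ConnectedSpace T']
    [Finite ι] (C : ι → Set T') (hC : ∀ k, IsClosed (C k)) (hC' : ∀ k, (C k).Nonempty) (hcov' : ∀ x, ∃ k, x ∈ C k)
    (P : ι → Set T) (hP : ∀ k, IsConnected (P k)) (hcov : ∀ x, ∃ k, x ∈ P k)
    (hmeet : ∀ k l, (C k ∩ C l).Nonempty → (P k ∩ P l).Nonempty) : ConnectedSpace T := by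
  obtain ⟨z⟩ := (inferInstance : Nonempty T')
  obtain ⟨k₀, -⟩ := hcov' z
  haveI : Nonempty T := ⟨(hP k₀).nonempty.some⟩
  haveI : PreconnectedSpace T := preconnectedSpace_iff_clopen.2 fun D hD => by
    have hsub : ∀ k, P k ⊆ D ∨ Disjoint (P k) D := fun k => by
      by_cases h : (P k ∩ D).Nonempty
      · exact Or.inl ((hP k).isPreconnected.subset_isClopen hD h)
      · exact Or.inr (Set.disjoint_iff_inter_eq_empty.2 (Set.not_nonempty_iff_eq_empty.1 h))
    let D' : Set T' := ⋃ k ∈ {k | P k ⊆ D}, C k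
    have hD' : IsClosed D' := (Set.toFinite _).isClosed_biUnion fun k _ => hC k
    have hc : D'ᶜ = ⋃ k ∈ {k | ¬ P k ⊆ D}, C k := by
      ext x
      simp only [D', Set.mem_compl_iff, Set.mem_iUnion₂, Set.mem_ofPred_eq, not_exists]
      constructor
      · intro h
        obtain ⟨k, hk⟩ := hcov' x
        exact ⟨k, fun hkD => h k hkD hk, hk⟩
      · rintro ⟨l, hl, hxl⟩ k hk hxk
        obtain ⟨w, hwk, hwl⟩ := hmeet k l ⟨x, hxk, hxl⟩
        exact Set.disjoint_left.1 ((hsub l).resolve_left hl) hwl (hk hwk)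
    have hclopen : IsClopen D' := ⟨hD', by
      rw [← isClosed_compl_iff, hc]
      exact (Set.toFinite _).isClosed_biUnion fun k _ => hC k⟩
    rcases isClopen_iff.1 hclopen with h | h
    · refine Or.inl (Set.eq_empty_iff_forall_notMem.2 fun x hx => ?_)
      obtain ⟨k, hk⟩ := hcov x
      obtain ⟨w, hw⟩ := hC' k
      have hkD : P k ⊆ D := (hsub k).resolve_right fun h' => Set.disjoint_left.1 h' hk hx
      exact (h ▸ Set.mem_biUnion (show k ∈ {k | P k ⊆ D} from hkD) hw : w ∈ (∅ : Set T'))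
    · refine Or.inr (Set.eq_univ_of_forall fun x => ?_)
      obtain ⟨k, hk⟩ := hcov x
      refine by_contra fun hx => ?_
      obtain ⟨w, hw⟩ := hC' k
      obtain ⟨l, hl, hwl⟩ := Set.mem_iUnion₂.1 (h.ge (Set.mem_univ w))
      obtain ⟨v, hvk, hvl⟩ := hmeet k l ⟨w, hw, hwl⟩
      exact hx ((hP k).isPreconnected.subset_isClopen hD ⟨v, hvk, hl hvl⟩ hk)
  exact ⟨inferInstance⟩

end Groth.Agent.Ega43Sect
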