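import Groth.Agent.Ega43Sect.HypModel
import Groth.Agent.FlatMisc.SpreadGeomRed
import Groth.Agent.FibDim.BaseChange
import Groth.Agent.GenImage.Basic

/-!
# Geometric irreducibility and integrality in the fibres near the generic one (ring level)
-/

set_option autoImplicit false
set_option linter.style.haveILetI false
set_option maxHeartbeats 1600000

universe u

open TensorProduct

namespace Groth.Agent.Ega43Sect

/-- A ring injecting into one with prime nilradical has prime nilradical. -/
theorem nilradical_isPrime_of_injective {R S : Type u} [CommRing R] [CommRing S] (f : R →+* S)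
    (hf : Function.Injective f) (h : (nilradical S).IsPrime) : (nilradical R).IsPrime := by
  have : nilradical R = (nilradical S).comap f := Ideal.ext fun x => (IsNilpotent.map_iff hf).symm
  rw [this]
  exact Ideal.IsPrime.comap f

/-- If no element killed in a torsion-free localisation survives, torsion dies near the generic point. -/
theorem tmul_eq_zero_near {R M : Type u} [CommRing R] [IsDomain R] [AddCommGroup M] [Module R M] {c a : R} (hc : c ≠ 0)
    (ha : a ≠ 0) [Module.Free (Localization.Away c) (LocalizedModule (Submonoid.powers c) M)] (y : M) (hy : a • y = 0)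
    (L : Type u) [Field L] [Algebra R L] (hL : algebraMap R L c ≠ 0) : (1 : L) ⊗ₜ[R] y = 0 := by
  haveI : IsDomain (Localization.Away c) :=
    IsLocalization.isDomain_localization (powers_le_nonZeroDivisors_of_noZeroDivisors hc)
  let mk := LocalizedModule.mkLinearMap (Submonoid.powers c) M
  let b := Module.Free.chooseBasis (Localization.Away c) (LocalizedModule (Submonoid.powers c) M)
  have ha' : algebraMap R (Localization.Away c) a ≠ 0 := fun h => ha
    (IsLocalization.injective _ (powers_le_nonZeroDivisors_of_noZeroDivisors hc) (h.trans (map_zero _).symm))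
  have h1 : algebraMap R (Localization.Away c) a • mk y = 0 := by
    rw [algebraMap_smul, ← map_smul, hy, map_zero]
  have h2 : mk y = 0 := b.ext_elem fun i => by
    have h3 := congrArg (fun z => b.repr z i) h1
    simp only [map_smul, Finsupp.smul_apply, smul_eq_mul, map_zero, Finsupp.coe_zero, Pi.zero_apply,
      mul_eq_zero, ha', false_or] at h3
    rw [h3, map_zero]
    rfl
  obtain ⟨⟨_, m, rfl⟩, hm⟩ := (IsLocalizedModule.eq_zero_iff (Submonoid.powers c) mk).1 h2
  have hm' : c ^ m • y = 0 := hm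
  have h4 : algebraMap R L c ^ m • ((1 : L) ⊗ₜ[R] y) = 0 := by
    rw [← map_pow, algebraMap_smul, ← TensorProduct.tmul_smul, hm', TensorProduct.tmul_zero]
  exact (smul_eq_zero.1 h4).resolve_left (pow_ne_zero _ hL)

theorem exists_near_subalgebra {A B Ω : Type u} [CommRing A] [IsDomain A] [CommRing B] [Algebra A B]
    [Algebra.FiniteType A B] [Field Ω] [IsAlgClosed Ω] [Algebra A Ω] [FaithfulSMul A Ω]
    (h : (nilradical (Ω ⊗[A] B)).IsPrime) :
    ∃ A₁ : Subalgebra A Ω, A₁.FG ∧ ∃ c : A₁, c ≠ 0 ∧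
      ∀ (κ : Type u) [Field κ] [Algebra A₁ κ], algebraMap A₁ κ c ≠ 0 →
        (nilradical (κ ⊗[A₁] (A₁ ⊗[A] B))).IsPrime ∧
          (_root_.IsReduced (Ω ⊗[A] B) → IsDomain (κ ⊗[A₁] (A₁ ⊗[A] B))) := by
  classical
  let R := Ω ⊗[A] B
  let P : Ideal R := nilradical R
  haveI : P.IsPrime := h
  let L := FractionRing (R ⧸ P)
  let π : R →ₐ[Ω] L := (IsScalarTower.toAlgHom Ω (R ⧸ P) L).comp (Ideal.Quotient.mkₐ Ω P)
  let θ₀ : B →ₐ[A] L := (π.restrictScalars A).comp (Algebra.TensorProduct.includeRight (R := A) (A := Ω))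
  have hπ : ∀ z : Ω ⊗[A] B, π z ∈ IntermediateField.adjoin Ω (Set.range θ₀) := fun z => by
    induction z with
    | zero => rw [map_zero]; exact zero_mem _
    | tmul w b =>
      have : (w ⊗ₜ[A] b : R) = w • ((1 : Ω) ⊗ₜ[A] b) := by rw [TensorProduct.smul_tmul', smul_eq_mul, mul_one]
      rw [this, map_smul]
      have hb : θ₀ b ∈ IntermediateField.adjoin Ω (Set.range θ₀) :=
        IntermediateField.subset_adjoin Ω _ (Set.mem_range_self b)
      exact IntermediateField.smul_mem _ hb
    | add a b ha hb => rw [map_add]; exact add_mem ha hb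
  have hgen : IntermediateField.adjoin Ω (Set.range θ₀) = ⊤ := top_le_iff.1 fun z _ => by
    obtain ⟨x, y, -, rfl⟩ := IsFractionRing.div_surjective (R ⧸ P) z
    obtain ⟨x, rfl⟩ := Ideal.Quotient.mk_surjective x
    obtain ⟨y, rfl⟩ := Ideal.Quotient.mk_surjective y
    exact div_mem (hπ x) (hπ y)
  obtain ⟨A₁, T, _, _, _, θ, χ, hfg, hTft, hχ, hχA, hχB, f, hf, hfib⟩ := exists_hyp_model θ₀ hgen
  haveI : Algebra.FiniteType A A₁ := (Subalgebra.fg_iff_finiteType _).1 hfg
  haveI := hTft
  let S' := θ.range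
  let θ' : A₁ ⊗[A] B →ₐ[A₁] S' := θ.rangeRestrict
  haveI : Algebra.FiniteType A₁ S' := Algebra.FiniteType.of_surjective θ' θ.rangeRestrict_surjective
  have hAS : Function.Injective (algebraMap A₁ S') := fun a b hab => Subtype.ext ((algebraMap Ω L).injective (by
    rw [← hχA, ← hχA]
    exact congrArg χ (congrArg Subtype.val hab)))
  obtain ⟨d, hd, hdinj⟩ := exists_injective_near (R := A₁) (S := S') (T := T) Subtype.val_injective hAS
  obtain ⟨e, he, -, hgood, -, -⟩ := GenFreeRed.exists_isGood A₁ (A₁ ⊗[A] B) (A₁ ⊗[A] B) 1 one_ne_zero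
  rw [one_mul] at he hgood
  haveI := hgood
  obtain ⟨e', he', hne⟩ := FlatMisc.SpreadRed.exists_ne_zero_near (R := A₁) (S := S') Ω Subtype.val_injective
    (1 : S') (by
      intro h0
      let ev : Ω ⊗[A₁] S' →ₐ[Ω] L := Algebra.TensorProduct.lift (Algebra.ofId Ω L)
        (({ χ with commutes' := hχA } : T →ₐ[A₁] L).comp S'.val) fun _ _ => Commute.all _ _
      have h1 := congrArg ev h0
      rw [map_zero, ← Algebra.TensorProduct.one_def, map_one] at h1
      exact one_ne_zero h1)
  -- elements of the kernel die near the generic point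
  let Ψ : A₁ ⊗[A] B →ₐ[A] R := Algebra.TensorProduct.map A₁.val (AlgHom.id A B)
  have hcomp : ∀ x, χ (θ x) = π (Ψ x) := fun x => by
    induction x with
    | zero => simp
    | tmul a b =>
      have e1 : (a ⊗ₜ[A] b : A₁ ⊗[A] B) = a • ((1 : A₁) ⊗ₜ[A] b) := by
        rw [TensorProduct.smul_tmul', smul_eq_mul, mul_one]
      have e2 : Ψ (a ⊗ₜ[A] b) = (a : Ω) • ((1 : Ω) ⊗ₜ[A] b) := by
        rw [TensorProduct.smul_tmul', smul_eq_mul, mul_one]
        rfl
      rw [e2, map_smul, e1, map_smul, Algebra.smul_def, map_mul, hχA, hχB, Algebra.smul_def]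
      rfl
    | add a b ha hb => simp only [map_add, ha, hb]
  have hΨ : ∀ y : A₁ ⊗[A] B, Ψ y = 0 → ∃ a : A₁, a ≠ 0 ∧ a • y = 0 := fun y hy => by
    letI : Algebra (FractionRing A₁) Ω := (IsFractionRing.lift (A := A₁) (g := algebraMap A₁ Ω) Subtype.val_injective).toAlgebra
    haveI : IsScalarTower A₁ (FractionRing A₁) Ω := IsScalarTower.of_algebraMap_eq fun a =>
      (IsFractionRing.lift_algebraMap (A := A₁) (g := algebraMap A₁ Ω) Subtype.val_injective a).symm
    refine FlatMisc.SpreadRed.exists_smul_eq_zero (R := A₁) (S := A₁ ⊗[A] B) (FractionRing A₁) ?_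
    refine FlatMisc.SpreadRed.map_injective_of_fields (FractionRing A₁) Ω (A₁ ⊗[A] B) ?_
    rw [map_zero, Algebra.TensorProduct.map_tmul, map_one, AlgHom.id_apply]
    refine (Algebra.TensorProduct.cancelBaseChange A A₁ Ω Ω B).injective ?_
    rw [map_zero, ← hy]
    clear hy
    induction y with
    | zero => simp
    | tmul a b =>
      simp [Ψ, Algebra.smul_def]
      rfl
    | add a b ha hb => rw [TensorProduct.tmul_add, map_add, ha, hb, map_add]
  refine ⟨A₁, hfg, f * d * e * e', mul_ne_zero (mul_ne_zero (mul_ne_zero hf hd) he) he', fun κ _ _ hκ => ?_⟩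
  simp only [map_mul, ne_eq, mul_eq_zero, not_or] at hκ
  obtain ⟨⟨⟨hκf, hκd⟩, hκe⟩, hκe'⟩ := hκ
  have hker : ∀ x ∈ RingHom.ker θ', IsNilpotent ((1 : κ) ⊗ₜ[A₁] x : κ ⊗[A₁] (A₁ ⊗[A] B)) ∧
      (_root_.IsReduced R → ((1 : κ) ⊗ₜ[A₁] x : κ ⊗[A₁] (A₁ ⊗[A] B)) = 0) := fun x hx => by
    have hx' : π (Ψ x) = 0 := by
      rw [← hcomp, show θ x = (θ' x : T) from rfl, RingHom.mem_ker.1 hx]
      exact map_zero χ
    have hnil : IsNilpotent (Ψ x) := mem_nilradical.1 (Ideal.Quotient.eq_zero_iff_mem.1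
      (IsFractionRing.injective (R ⧸ P) L (hx'.trans (map_zero _).symm)))
    refine ⟨?_, fun hred => ?_⟩
    · obtain ⟨n, hn⟩ := hnil
      obtain ⟨a, ha, hay⟩ := hΨ (x ^ n) (by rw [map_pow, hn])
      refine ⟨n, ?_⟩
      rw [Algebra.TensorProduct.tmul_pow, one_pow]
      exact tmul_eq_zero_near he ha _ hay κ hκe
    · obtain ⟨a, ha, hay⟩ := hΨ x (hnil.eq_zero)
      exact tmul_eq_zero_near he ha _ hay κ hκe
  let q : κ ⊗[A₁] (A₁ ⊗[A] B) →ₐ[A₁] κ ⊗[A₁] S' := Algebra.TensorProduct.map (AlgHom.id A₁ κ) θ'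
  have hq : RingHom.ker q = (RingHom.ker θ').map Algebra.TensorProduct.includeRight :=
    Algebra.TensorProduct.lTensor_ker _ θ.rangeRestrict_surjective
  haveI := hfib κ hκf
  have hinj : Function.Injective (Algebra.TensorProduct.map (AlgHom.id A₁ κ) S'.val) := by
    have hc : ∀ w : κ ⊗[A₁] S', Algebra.TensorProduct.map (AlgHom.id A₁ κ) S'.val w = Algebra.TensorProduct.comm A₁ T κ
        (Algebra.TensorProduct.map (IsScalarTower.toAlgHom A₁ S' T) (AlgHom.id A₁ κ)
          (Algebra.TensorProduct.comm A₁ κ S' w)) := fun w => by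
      induction w with
      | zero => simp
      | tmul a q => rfl
      | add a b ha hb => simp only [map_add, ha, hb]
    intro a b hab
    rw [hc, hc] at hab
    exact (Algebra.TensorProduct.comm A₁ κ S').injective
      (hdinj κ hκd ((Algebra.TensorProduct.comm A₁ T κ).injective hab))
  haveI : NoZeroDivisors (κ ⊗[A₁] S') := hinj.noZeroDivisors _ (map_zero _) (map_mul _)
  haveI : Nontrivial (κ ⊗[A₁] S') := ⟨_, _, hne κ hκe'⟩
  haveI : IsDomain (κ ⊗[A₁] S') := NoZeroDivisors.to_isDomain _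
  haveI hkp : (RingHom.ker q).IsPrime := RingHom.ker_isPrime q
  refine ⟨?_, fun hred => ?_⟩
  · have hle : RingHom.ker q ≤ nilradical (κ ⊗[A₁] (A₁ ⊗[A] B)) := by
      rw [hq, Ideal.map_le_iff_le_comap]
      exact fun x hx => mem_nilradical.2 (hker x hx).1
    have : nilradical (κ ⊗[A₁] (A₁ ⊗[A] B)) = RingHom.ker q := le_antisymm (nilradical_le_prime _) hle
    rw [this]
    exact hkp
  · have hbot : RingHom.ker q = ⊥ := by
      rw [hq, ← le_bot_iff, Ideal.map_le_iff_le_comap]
      exact fun x hx => (hker x hx).2 hred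
    have hqi : Function.Injective q := fun a b hab => sub_eq_zero.1 ((Submodule.mem_bot _).1 (hbot ▸
      (show a - b ∈ RingHom.ker q by rw [RingHom.mem_ker, map_sub, hab, sub_self])))
    haveI : NoZeroDivisors (κ ⊗[A₁] (A₁ ⊗[A] B)) := hqi.noZeroDivisors q (map_zero q) (map_mul q)
    haveI : Nontrivial (κ ⊗[A₁] (A₁ ⊗[A] B)) := RingHom.domain_nontrivial q.toRingHom
    exact (isDomain_iff_noZeroDivisors_and_nontrivial (κ ⊗[A₁] (A₁ ⊗[A] B))).2 ⟨‹_›, ‹_›⟩

/-- Geometric irreducibility and integrality spread from the generic fibre. -/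
theorem exists_irred_near {A B : Type u} (Ω : Type u) [CommRing A] [IsDomain A] [CommRing B] [Algebra A B]
    [Algebra.FiniteType A B] [Field Ω] [IsAlgClosed Ω] [Algebra A Ω] [FaithfulSMul A Ω]
    (h : (nilradical (Ω ⊗[A] B)).IsPrime) :
    ∃ c : A, c ≠ 0 ∧ ∀ (κ : Type u) [Field κ] [Algebra A κ], algebraMap A κ c ≠ 0 →
      (nilradical (κ ⊗[A] B)).IsPrime ∧ (_root_.IsReduced (Ω ⊗[A] B) → IsDomain (κ ⊗[A] B)) := by
  classical
  obtain ⟨A₁, hfg, c₁, hc₁, hnear⟩ := exists_near_subalgebra h
  haveI : Algebra.FiniteType A A₁ := (Subalgebra.fg_iff_finiteType _).1 hfg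
  let A₂ := Localization.Away c₁
  haveI : Algebra.FiniteType A₁ A₂ := IsLocalization.finiteType_of_monoid_fg (Submonoid.powers c₁) A₂
  haveI : Algebra.FiniteType A A₂ := Algebra.FiniteType.trans (R := A) (S := A₁) inferInstance inferInstance
  haveI : IsDomain A₂ := IsLocalization.isDomain_localization (powers_le_nonZeroDivisors_of_noZeroDivisors hc₁)
  have hAA : Function.Injective (algebraMap A A₂) := by
    rw [IsScalarTower.algebraMap_eq A A₁ A₂]
    refine (IsLocalization.injective A₂ (powers_le_nonZeroDivisors_of_noZeroDivisors hc₁)).comp ?_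
    exact fun a b hab => FaithfulSMul.algebraMap_injective A Ω (congrArg Subtype.val hab)
  obtain ⟨c, hc, hq⟩ := GenImage.exists_basicOpen_subset_range hAA
  refine ⟨c, hc, fun κ _ _ hκ => ?_⟩
  let p := RingHom.ker (algebraMap A κ)
  haveI : p.IsPrime := RingHom.ker_isPrime _
  obtain ⟨q, hqp, hqc⟩ := hq ⟨p, inferInstance⟩ hκ
  haveI := hqp
  let g : A →+* q.ResidueField := (algebraMap A₂ q.ResidueField).comp (algebraMap A A₂)
  let j := Ideal.ResidueField.map p q (algebraMap A A₂) hqc.symm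
  let i : p.ResidueField →+* κ := IsFractionRing.lift (A := A ⧸ p) (g := (algebraMap A κ).kerLift)
    (RingHom.kerLift_injective _)
  letI := j.toAlgebra
  letI := i.toAlgebra
  obtain ⟨F, _, eκ, eq, he⟩ := FibDim.exists_fieldCompositum p.ResidueField κ q.ResidueField
  letI : Algebra A₂ F := (eq.comp (algebraMap A₂ q.ResidueField)).toAlgebra
  letI : Algebra A₁ F := ((algebraMap A₂ F).comp (algebraMap A₁ A₂)).toAlgebra
  letI : Algebra A F := ((algebraMap A₁ F).comp (algebraMap A A₁)).toAlgebra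
  haveI : IsScalarTower A A₁ F := IsScalarTower.of_algebraMap_eq fun _ => rfl
  letI : Algebra κ F := eκ.toAlgebra
  haveI : IsScalarTower A κ F := IsScalarTower.of_algebraMap_eq fun a => by
    show eq (algebraMap A₂ q.ResidueField (algebraMap A₁ A₂ (algebraMap A A₁ a))) = eκ (algebraMap A κ a)
    rw [← IsScalarTower.algebraMap_apply A A₁ A₂]
    have h1 : algebraMap p.ResidueField κ (algebraMap A p.ResidueField a) = algebraMap A κ a := by
      show i (algebraMap (A ⧸ p) p.ResidueField (Ideal.Quotient.mk p a)) = _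
      rw [IsFractionRing.lift_algebraMap]
      exact RingHom.kerLift_mk _ a
    rw [← h1, he]
    show _ = eq (j (algebraMap A p.ResidueField a))
    rw [Ideal.ResidueField.map_algebraMap]
  have hc₁F : algebraMap A₁ F c₁ ≠ 0 := ((IsLocalization.Away.algebraMap_isUnit (S := A₂) c₁).map (algebraMap A₂ F)).ne_zero
  obtain ⟨hp, hd⟩ := hnear F hc₁F
  let ε := Algebra.TensorProduct.cancelBaseChange A A₁ F F B
  let ι := Algebra.TensorProduct.map (IsScalarTower.toAlgHom A κ F) (AlgHom.id A B)
  have hι : Function.Injective ι := FlatMisc.SpreadRed.map_injective_of_fields κ F B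
  refine ⟨nilradical_isPrime_of_injective (ε.symm.toRingEquiv.toRingHom.comp ι.toRingHom)
    (ε.symm.injective.comp hι) hp, fun hred => ?_⟩
  haveI := hd hred
  exact Function.Injective.isDomain (ε.symm.toRingEquiv.toRingHom.comp ι.toRingHom) (ε.symm.injective.comp hι)

end Groth.Agent.Ega43Sect
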