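import Groth.Agent.Ega43Sect.GeomIrrNear

/-!
# Geometric irreducibility of the fibres near the generic one
-/

set_option autoImplicit false
set_option linter.style.haveILetI false

universe u

open TensorProduct AlgebraicGeometry CategoryTheory CategoryTheory.Limits

namespace Groth.Agent.Ega43Sect

/-- An affine open of a scheme over an affine base gives an open chart of every base change. -/
theorem exists_chart {A : Type u} [CommRing A] {X : Scheme.{u}} (F : X ⟶ Spec (CommRingCat.of A))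
    [LocallyOfFiniteType F] (U : X.Opens) (hU : IsAffineOpen U) :
    ∃ (B : Type u) (_ : CommRing B) (_ : Algebra A B), Algebra.FiniteType A B ∧
      ∀ (K : Type u) [Field K] [Algebra A K],
        ∃ j : PrimeSpectrum (K ⊗[A] B) → ↥(pullback F (Spec.map (CommRingCat.ofHom (algebraMap A K)))),
          Topology.IsOpenEmbedding j ∧
            Set.range j = (pullback.fst F (Spec.map (CommRingCat.ofHom (algebraMap A K)))).base ⁻¹' (U : Set ↥X) := by
  obtain ⟨φ, hφ⟩ := Spec.map_surjective (hU.fromSpec ≫ F)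
  let B : Type u := ↥Γ(X, U)
  letI : Algebra A B := φ.hom.toAlgebra
  have hφ' : Spec.map (CommRingCat.ofHom (algebraMap A B)) = hU.fromSpec ≫ F := hφ
  refine ⟨B, inferInstance, inferInstance, ?_, fun K _ _ => ?_⟩
  · have h : LocallyOfFiniteType (Spec.map φ) := by rw [hφ]; infer_instance
    exact (HasRingHomProperty.Spec_iff (P := @LocallyOfFiniteType)).mp h
  let y := Spec.map (CommRingCat.ofHom (algebraMap A K))
  let i := pullback.map (Spec.map (CommRingCat.ofHom (algebraMap A B))) y F y hU.fromSpec (𝟙 _) (𝟙 _)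
    (by rw [Category.comp_id, hφ']) (by simp)
  let e := (pullbackSpecIso A B K).symm.hom.homeomorph
  let σ := PrimeSpectrum.homeomorphOfRingEquiv (Algebra.TensorProduct.comm A K B).toRingEquiv
  refine ⟨fun p => i.base (e (σ p)),
    i.isOpenEmbedding.comp (e.isOpenEmbedding.comp σ.isOpenEmbedding), ?_⟩
  rw [show Set.range (fun p => i.base (e (σ p))) = Set.range i.base from
    Function.Surjective.range_comp (e.surjective.comp σ.surjective) _, Scheme.Pullback.range_map, hU.range_fromSpec]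
  simp
  rfl

/-- A space covered by open irreducible subsets meeting pairwise is irreducible. -/
theorem irreducibleSpace_of_cover {T ι : Type*} [TopologicalSpace T] [Nonempty T] (O : ι → Set T)
    (ho : ∀ i, IsOpen (O i)) (hcov : ∀ x, ∃ i, x ∈ O i) (hirr : ∀ i, IsPreirreducible (O i))
    (hmeet : ∀ i j, (O i).Nonempty → (O j).Nonempty → (O i ∩ O j).Nonempty) : IrreducibleSpace T := by
  haveI : PreirreducibleSpace T := ⟨fun W W' hW hW' hx hx' => by
    obtain ⟨x, -, hx⟩ := hx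
    obtain ⟨x', -, hx'⟩ := hx'
    obtain ⟨i, hi⟩ := hcov x
    obtain ⟨j, hj⟩ := hcov x'
    obtain ⟨z, hzi, hzW, hzj⟩ := hirr i W (O j) hW (ho j) ⟨x, hi, hx⟩
      (hmeet i j ⟨x, hi⟩ ⟨x', hj⟩)
    obtain ⟨w, -, hw, hw'⟩ := hirr j W W' hW hW' ⟨z, hzj, hzW⟩ ⟨x', hj, hx'⟩
    exact ⟨w, trivial, hw, hw'⟩⟩
  exact ⟨inferInstance⟩

/-- Being non-empty is constant in the fibres near the generic one. -/
theorem exists_nontrivial_near {A B : Type u} [CommRing A] [IsDomain A] [CommRing B] [Algebra A B]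
    [Algebra.FiniteType A B] (Ω : Type u) [Field Ω] [Algebra A Ω] [FaithfulSMul A Ω] :
    ∃ c : A, c ≠ 0 ∧ ∀ (K : Type u) [Field K] [Algebra A K], algebraMap A K c ≠ 0 →
      (Nontrivial (K ⊗[A] B) ↔ Nontrivial (Ω ⊗[A] B)) := by
  classical
  by_cases h : Nontrivial (Ω ⊗[A] B)
  · obtain ⟨c, hc, hne⟩ := FlatMisc.SpreadRed.exists_ne_zero_near (R := A) (S := B) Ω
      (FaithfulSMul.algebraMap_injective A Ω) 1 one_ne_zero
    exact ⟨c, hc, fun K _ _ hK => iff_of_true ⟨_, _, hne K hK⟩ h⟩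
  · haveI := not_nontrivial_iff_subsingleton.1 h
    letI : Algebra (FractionRing A) Ω :=
      (IsFractionRing.lift (A := A) (g := algebraMap A Ω) (FaithfulSMul.algebraMap_injective A Ω)).toAlgebra
    haveI : IsScalarTower A (FractionRing A) Ω := IsScalarTower.of_algebraMap_eq fun a =>
      (IsFractionRing.lift_algebraMap (A := A) (g := algebraMap A Ω) (FaithfulSMul.algebraMap_injective A Ω) a).symm
    obtain ⟨a, ha, hab⟩ := FlatMisc.SpreadRed.exists_smul_eq_zero (R := A) (S := B) (FractionRing A) (g := 1)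
      (FlatMisc.SpreadRed.map_injective_of_fields (FractionRing A) Ω B (Subsingleton.elim _ _))
    refine ⟨a, ha, fun K _ _ hK => iff_of_false (fun hn => ?_) h⟩
    have h0 : algebraMap A K a • ((1 : K) ⊗ₜ[A] (1 : B)) = 0 := by
      rw [algebraMap_smul, ← TensorProduct.tmul_smul, hab, TensorProduct.tmul_zero]
    exact one_ne_zero (α := K ⊗[A] B) ((smul_eq_zero.1 h0).resolve_left hK)

set_option maxHeartbeats 1600000 in
/-- Geometric irreducibility of the fibres near the generic one. -/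
theorem exists_irreducibleSpace_near {A : Type u} [CommRing A] [IsDomain A] {X : Scheme.{u}}
    (F : X ⟶ Spec (CommRingCat.of A)) [LocallyOfFiniteType F] [CompactSpace ↥X] (Ω : Type u) [Field Ω]
    [IsAlgClosed Ω] [Algebra A Ω] [FaithfulSMul A Ω]
    (h : IrreducibleSpace ↥(pullback F (Spec.map (CommRingCat.ofHom (algebraMap A Ω))))) :
    ∃ c : A, c ≠ 0 ∧ ∀ (K : Type u) [Field K] [Algebra A K], algebraMap A K c ≠ 0 →
      IrreducibleSpace ↥(pullback F (Spec.map (CommRingCat.ofHom (algebraMap A K)))) := by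
  classical
  have hcov : ∀ x : X, ∃ U : X.Opens, IsAffineOpen U ∧ x ∈ U := fun x => by
    obtain ⟨U, hU, hxU, -⟩ := exists_isAffineOpen_mem_and_subset (x := x) (U := (⊤ : X.Opens)) (by simp)
    exact ⟨U, hU, hxU⟩
  choose U hU hxU using hcov
  obtain ⟨s, hs⟩ := isCompact_univ.elim_finite_subcover (fun x => (U x : Set X)) (fun x => (U x).isOpen)
    (fun x _ => Set.mem_iUnion.2 ⟨x, hxU x⟩)
  have hs' : ∀ x : X, ∃ i : ↥s, x ∈ U i := fun x => by
    obtain ⟨i, hi, hxi⟩ := Set.mem_iUnion₂.1 (hs (Set.mem_univ x))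
    exact ⟨⟨i, hi⟩, hxi⟩
  let pr := fun (K : Type u) [Field K] [Algebra A K] =>
    (pullback.fst F (Spec.map (CommRingCat.ofHom (algebraMap A K)))).base
  -- each chart stays irreducible or empty
  have h1 : ∀ i : ↥s, ∃ c : A, c ≠ 0 ∧ ∀ (K : Type u) [Field K] [Algebra A K], algebraMap A K c ≠ 0 →
      IsPreirreducible (pr K ⁻¹' (U i : Set X)) ∧
        ((pr K ⁻¹' (U i : Set X)).Nonempty ↔ (pr Ω ⁻¹' (U i : Set X)).Nonempty) := fun i => by
    obtain ⟨B, _, _, hft, hj⟩ := exists_chart F (U i) (hU i)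
    haveI := hft
    obtain ⟨c, hc, hne⟩ := exists_nontrivial_near (A := A) (B := B) Ω
    obtain ⟨jΩ, hjΩ, hrΩ⟩ := hj Ω
    by_cases hΩ : Nontrivial (Ω ⊗[A] B)
    · haveI : Nonempty (PrimeSpectrum (Ω ⊗[A] B)) := inferInstance
      haveI := h
      haveI := hjΩ.irreducibleSpace
      obtain ⟨d, hd, hirr⟩ := exists_irred_near Ω (A := A) (B := B) (PrimeSpectrum.irreducibleSpace_iff_isPrime_nilradical.1 inferInstance)
      refine ⟨c * d, mul_ne_zero hc hd, fun K _ _ hK => ?_⟩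
      rw [map_mul] at hK
      haveI := PrimeSpectrum.irreducibleSpace_iff_isPrime_nilradical.2 (hirr K (right_ne_zero_of_mul hK)).1
      haveI := (hne K (left_ne_zero_of_mul hK)).2 hΩ
      obtain ⟨j, hj, hr⟩ := hj K
      simp only [pr, ← hr, ← hrΩ]
      refine ⟨?_, iff_of_true (Set.range_nonempty _) (Set.range_nonempty _)⟩
      rw [← Set.image_univ]
      exact ((IrreducibleSpace.isIrreducible_univ _).image _ hj.continuous.continuousOn).isPreirreducible
    · refine ⟨c, hc, fun K _ _ hK => ?_⟩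
      obtain ⟨j, hj, hr⟩ := hj K
      haveI := not_nontrivial_iff_subsingleton.1 (fun hn => hΩ ((hne K hK).1 hn))
      haveI := not_nontrivial_iff_subsingleton.1 hΩ
      haveI : IsEmpty (PrimeSpectrum (K ⊗[A] B)) := inferInstance
      haveI : IsEmpty (PrimeSpectrum (Ω ⊗[A] B)) := inferInstance
      simp only [pr, ← hr, ← hrΩ, Set.range_eq_empty]
      exact ⟨isPreirreducible_empty, iff_of_false Set.not_nonempty_empty Set.not_nonempty_empty⟩
  -- charts meet
  have h2 : ∀ p : ↥s × ↥s, ∃ c : A, c ≠ 0 ∧ ∀ (K : Type u) [Field K] [Algebra A K], algebraMap A K c ≠ 0 →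
      (pr Ω ⁻¹' (U p.1 : Set X)).Nonempty → (pr Ω ⁻¹' (U p.2 : Set X)).Nonempty →
        (pr K ⁻¹' (U p.1 : Set X) ∩ pr K ⁻¹' (U p.2 : Set X)).Nonempty := fun p => by
    by_cases hp : (pr Ω ⁻¹' (U p.1 : Set X)).Nonempty ∧ (pr Ω ⁻¹' (U p.2 : Set X)).Nonempty
    · haveI := h
      obtain ⟨z, hz1, hz2⟩ := nonempty_preirreducible_inter ((pr Ω).hom.continuous.isOpen_preimage _ (U p.1).isOpen)
        ((pr Ω).hom.continuous.isOpen_preimage _ (U p.2).isOpen) hp.1 hp.2
      obtain ⟨W, hW, hzW, hWle⟩ := exists_isAffineOpen_mem_and_subset (x := pr Ω z) (U := U p.1 ⊓ U p.2) ⟨hz1, hz2⟩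
      obtain ⟨B, _, _, hft, hj⟩ := exists_chart F W hW
      haveI := hft
      obtain ⟨c, hc, hne⟩ := exists_nontrivial_near (A := A) (B := B) Ω
      obtain ⟨jΩ, hjΩ, hrΩ⟩ := hj Ω
      refine ⟨c, hc, fun K _ _ hK _ _ => ?_⟩
      obtain ⟨q, -⟩ : ∃ q, jΩ q = z := hrΩ.ge hzW
      haveI : Nontrivial (K ⊗[A] B) := (hne K hK).2 (PrimeSpectrum.nonempty_iff_nontrivial.1 ⟨q⟩)
      obtain ⟨q'⟩ : Nonempty (PrimeSpectrum (K ⊗[A] B)) := inferInstance
      obtain ⟨j, hj, hr⟩ := hj K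
      have hq : pr K (j q') ∈ W := hr.le ⟨q', rfl⟩
      exact ⟨j q', (hWle hq).1, (hWle hq).2⟩
    · exact ⟨1, one_ne_zero, fun K _ _ _ a b => absurd ⟨a, b⟩ hp⟩
  choose c1 hc1 h1 using h1
  choose c2 hc2 h2 using h2
  refine ⟨(∏ i, c1 i) * ∏ p, c2 p, mul_ne_zero (Finset.prod_ne_zero_iff.2 fun i _ => hc1 i)
    (Finset.prod_ne_zero_iff.2 fun p _ => hc2 p), fun K _ _ hK => ?_⟩
  rw [map_mul, map_prod, map_prod] at hK
  have hK1 : ∀ i, algebraMap A K (c1 i) ≠ 0 := fun i =>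
    Finset.prod_ne_zero_iff.1 (left_ne_zero_of_mul hK) i (Finset.mem_univ _)
  have hK2 : ∀ p, algebraMap A K (c2 p) ≠ 0 := fun p =>
    Finset.prod_ne_zero_iff.1 (right_ne_zero_of_mul hK) p (Finset.mem_univ _)
  haveI := h
  obtain ⟨z⟩ : Nonempty ↥(pullback F (Spec.map (CommRingCat.ofHom (algebraMap A Ω)))) := inferInstance
  obtain ⟨i, hi⟩ := hs' (pr Ω z)
  obtain ⟨w, -⟩ := (h1 i K (hK1 i)).2.2 ⟨z, hi⟩
  haveI : Nonempty ↥(pullback F (Spec.map (CommRingCat.ofHom (algebraMap A K)))) := ⟨w⟩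
  refine irreducibleSpace_of_cover (fun i : ↥s => pr K ⁻¹' (U i : Set X))
    (fun i => (pr K).hom.continuous.isOpen_preimage _ (U i).isOpen) (fun x => hs' _)
    (fun i => (h1 i K (hK1 i)).1) fun i j hi hj => ?_
  exact h2 (i, j) K (hK2 (i, j)) ((h1 i K (hK1 i)).2.1 hi) ((h1 j K (hK1 j)).2.1 hj)

/-- A geometric property of the fibre at a point holds for every base change to a field point over it. -/
theorem pullback_of_fiber {X Y : Scheme.{u}} (f : X ⟶ Y) (P : ObjectProperty Scheme.{u})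
    [P.IsClosedUnderIsomorphisms] (η : Y) (h : geometrically P (f.fiberToSpecResidueField η)) {K : Type u} [Field K]
    (y : Spec (CommRingCat.of K) ⟶ Y) (hy : y.base (IsLocalRing.closedPoint K) = η) : P (pullback f y) := by
  obtain ⟨⟨η', φ⟩, rfl⟩ := (Scheme.SpecToEquivOfField _ _).symm.surjective y
  have hη : η' = η := by
    rw [← hy]
    simp [Scheme.SpecToEquivOfField]
  subst hη
  simp only [Scheme.SpecToEquivOfField, Equiv.coe_fn_symm_mk]
  exact P.prop_of_iso (pullbackLeftPullbackSndIso f (Y.fromSpecResidueField η') (Spec.map φ))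
    (pullback_of_geometrically h _ _)

/-- A nonempty open of an irreducible base is homeomorphic to the spectrum of a domain. -/
theorem exists_domain_chart (Y : Scheme.{u}) [IrreducibleSpace ↥Y] :
    ∃ (A : Type u) (_ : CommRing A) (_ : IsDomain A) (ψ : Spec (CommRingCat.of A) ⟶ Y),
      (∀ p : PrimeSpectrum A, p.asIdeal = ⊥ → ψ.base p = genericPoint ↥Y) ∧
      ∀ c : A, c ≠ 0 → ∃ V : Y.Opens, (V : Set ↥Y).Nonempty ∧
        ∀ (K : Type u) [Field K] (y : Spec (CommRingCat.of K) ⟶ Y), y.base (IsLocalRing.closedPoint K) ∈ V →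
          ∃ φ : A →+* K, φ c ≠ 0 ∧ Spec.map (CommRingCat.ofHom φ) ≫ ψ = y := by
  obtain ⟨U, hU, hηU, -⟩ := exists_isAffineOpen_mem_and_subset (x := genericPoint ↥Y) (U := (⊤ : Y.Opens)) (by simp)
  let A₀ : Type u := ↥Γ(Y, U)
  have hmem : ∀ q : PrimeSpectrum A₀, hU.fromSpec.base q ∈ U := fun q => hU.range_fromSpec.le ⟨q, rfl⟩
  let ξ : PrimeSpectrum A₀ := hU.primeIdealOf ⟨genericPoint ↥Y, hηU⟩
  have hξ : hU.fromSpec.base ξ = genericPoint ↥Y := hU.fromSpec_primeIdealOf _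
  have hle : ∀ q : PrimeSpectrum A₀, ξ.asIdeal ≤ q.asIdeal := fun q => by
    have h1 : hU.fromSpec.base ξ ⤳ hU.fromSpec.base q := hξ.symm ▸ genericPoint_specializes _
    exact (PrimeSpectrum.le_iff_specializes _ _).2 (hU.fromSpec.isOpenEmbedding.isInducing.specializes_iff.1 h1)
  haveI := ξ.isPrime
  refine ⟨A₀ ⧸ ξ.asIdeal, inferInstance, inferInstance,
    Spec.map (CommRingCat.ofHom (Ideal.Quotient.mk ξ.asIdeal)) ≫ hU.fromSpec, fun p hp => ?_, fun c hc => ?_⟩
  · show hU.fromSpec.base (PrimeSpectrum.comap (Ideal.Quotient.mk ξ.asIdeal) p) = _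
    rw [← hξ]
    congr 1
    refine PrimeSpectrum.ext ?_
    show Ideal.comap _ p.asIdeal = _
    rw [hp, ← RingHom.ker_eq_comap_bot, Ideal.mk_ker]
  · obtain ⟨c₀, rfl⟩ := Ideal.Quotient.mk_surjective c
    have hc₀ : c₀ ∉ ξ.asIdeal := fun h => hc (Ideal.Quotient.eq_zero_iff_mem.2 h)
    refine ⟨hU.fromSpec ''ᵁ (PrimeSpectrum.basicOpen c₀ : TopologicalSpace.Opens (PrimeSpectrum A₀)),
      ⟨_, ξ, hc₀, rfl⟩, fun K _ y hy => ?_⟩
    obtain ⟨q, hq, hqy⟩ := hy
    have hyU : Set.range y.base ⊆ Set.range hU.fromSpec.base := by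
      rintro _ ⟨t, rfl⟩
      rw [Subsingleton.elim (α := PrimeSpectrum K) t (IsLocalRing.closedPoint K)]
      exact ⟨q, hqy⟩
    obtain ⟨φ₀, hφ₀⟩ := Spec.map_surjective (IsOpenImmersion.lift hU.fromSpec y hyU)
    have hy' : Spec.map φ₀ ≫ hU.fromSpec = y := by rw [hφ₀, IsOpenImmersion.lift_fac]
    have hq' : q = PrimeSpectrum.comap φ₀.hom (IsLocalRing.closedPoint K) := by
      refine hU.fromSpec.isOpenEmbedding.injective ?_
      exact Eq.trans hqy (congrArg (fun g : Spec (CommRingCat.of K) ⟶ Y => g.base (IsLocalRing.closedPoint K)) hy'.symm)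
    have hker : ∀ a ∈ ξ.asIdeal, φ₀.hom a = 0 := fun a ha => by
      have h1 : a ∈ q.asIdeal := hle q ha
      rw [hq'] at h1
      simpa [IsLocalRing.closedPoint] using h1
    refine ⟨Ideal.Quotient.lift ξ.asIdeal φ₀.hom hker, ?_, ?_⟩
    · rw [Ideal.Quotient.lift_mk]
      intro h0
      refine hq (?_ : c₀ ∈ q.asIdeal)
      rw [hq']
      simp [IsLocalRing.closedPoint, h0]
    · rw [← Category.assoc, ← Spec.map_comp, ← hy']
      congr 2

end Groth.Agent.Ega43Sect
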