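import Groth.Agent.FlatMisc.SpreadRed
import Groth.Agent.GenImage.Basic

/-!
# Injectivity of an extension of domains in the fibres near the generic one
-/

set_option autoImplicit false
set_option linter.style.haveILetI false

universe u

open TensorProduct

namespace Groth.Agent.Ega43Sect

variable {R : Type u} [CommRing R] [IsDomain R]

/-- A finite type extension of domains over a domain `R` stays injective in the fibres near the generic one. -/
theorem exists_injective_near {S T : Type u} [CommRing S] [IsDomain S] [CommRing T] [IsDomain T] [Algebra R S]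
    [Algebra R T] [Algebra S T] [IsScalarTower R S T] [Algebra.FiniteType R S] [Algebra.FiniteType R T]
    (hinj : Function.Injective (algebraMap S T)) (hR : Function.Injective (algebraMap R S)) :
    ∃ c : R, c ≠ 0 ∧ ∀ (L : Type u) [Field L] [Algebra R L], algebraMap R L c ≠ 0 →
      Function.Injective (Algebra.TensorProduct.map (IsScalarTower.toAlgHom R S T) (AlgHom.id R L)) := by
  classical
  haveI : Algebra.FiniteType S T := Algebra.FiniteType.of_restrictScalars_finiteType R S T
  obtain ⟨g, hg, hfree, -⟩ := GenFreeRed.exists_isGood S T T 1 one_ne_zero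
  rw [one_mul] at hg hfree
  haveI := hfree
  let Sg := Localization.Away g
  let Tg := LocalizedModule (Submonoid.powers g) T
  let toT : T →ₗ[S] Tg := LocalizedModule.mkLinearMap _ _
  have h1 : toT 1 ≠ 0 := fun h => by
    obtain ⟨⟨_, n, rfl⟩, hn⟩ := (IsLocalizedModule.eq_zero_iff (Submonoid.powers g) toT).1 h
    have h0 : algebraMap S T (g ^ n) = 0 := by
      have hn' : g ^ n • (1 : T) = 0 := hn
      rwa [Algebra.smul_def, mul_one] at hn'
    exact pow_ne_zero n hg (hinj (h0.trans (map_zero _).symm))
  let b := Module.Free.chooseBasis Sg Tg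
  obtain ⟨i, hi⟩ : ∃ i, b.coord i (toT 1) ≠ 0 := by
    by_contra h
    push Not at h
    exact h1 (b.ext_elem fun i => (h i).trans (by rw [map_zero]; rfl))
  let ψ : T →ₗ[S] Sg := ((b.coord i).restrictScalars S).comp toT
  obtain ⟨⟨s, ⟨_, k, rfl⟩⟩, hs⟩ := IsLocalization.surj (Submonoid.powers g) (ψ 1)
  have hs0 : s ≠ 0 := fun h => hi (by
    rw [h, map_zero] at hs
    exact (IsLocalization.map_units Sg (⟨g ^ k, k, rfl⟩ : Submonoid.powers g)).mul_left_eq_zero.1 hs)
  haveI : IsDomain (Localization.Away g) :=
    IsLocalization.isDomain_localization (powers_le_nonZeroDivisors_of_noZeroDivisors hg)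
  let K := FractionRing R
  haveI : Module.Flat R K := IsLocalization.flat K (nonZeroDivisors R)
  have hnzd : ((1 : K) ⊗ₜ[R] (g * s) : K ⊗[R] S) ∈ nonZeroDivisors (K ⊗[R] S) := by
    have hm : Function.Injective ((LinearMap.mulRight R (g * s)).lTensor K) :=
      Module.Flat.lTensor_preserves_injective_linearMap _ fun a b h =>
        mul_right_cancel₀ (mul_ne_zero hg hs0) h
    have key : ∀ z : K ⊗[R] S, (LinearMap.mulRight R (g * s)).lTensor K z = z * ((1 : K) ⊗ₜ[R] (g * s)) := fun z => by
      induction z with
      | zero => simp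
      | tmul a b => rw [LinearMap.lTensor_tmul, Algebra.TensorProduct.tmul_mul_tmul, mul_one]; rfl
      | add a b ha hb => rw [map_add, ha, hb, add_mul]
    exact mem_nonZeroDivisors_iff_right.2 fun z hz => hm (by rw [map_zero, key, hz])
  obtain ⟨c, hc, hcnz⟩ := FlatMisc.SpreadRed.exists_nzd_near K (IsFractionRing.injective R K) (g * s) hnzd
  refine ⟨c, hc, fun L _ _ hL => (injective_iff_map_eq_zero _).2 fun z hz => ?_⟩
  -- multiplication by `g * s` is injective on `S ⊗ L`
  have hgs : ∀ w : S ⊗[R] L, (g * s) • w = 0 → w = 0 := fun w hw => by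
    refine (Algebra.TensorProduct.comm R S L).injective (Eq.trans ?_ (map_zero _).symm)
    refine (mem_nonZeroDivisors_iff_right.1 (hcnz L hL)) _ ?_
    have e : ∀ w : S ⊗[R] L, (g * s) • w = w * ((g * s) ⊗ₜ[R] (1 : L)) := fun w => by
      induction w with
      | zero => simp
      | tmul a b => rw [smul_tmul', Algebra.TensorProduct.tmul_mul_tmul, smul_eq_mul, mul_one, mul_comm a]
      | add a b ha hb => rw [smul_add, ha, hb, add_mul]
    rw [e w] at hw
    have := congrArg (Algebra.TensorProduct.comm R S L) hw
    rwa [map_mul, Algebra.TensorProduct.comm_tmul, map_zero] at this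
  let jS : S →ₗ[S] Sg := Algebra.linearMap S Sg
  have hcomp : ∀ w : S ⊗[R] L,
      AlgebraTensorModule.rTensor R L ψ (Algebra.TensorProduct.map (IsScalarTower.toAlgHom R S T) (AlgHom.id R L) w) =
        AlgebraTensorModule.rTensor R L (ψ.comp (Algebra.linearMap S T)) w := fun w => by
    induction w with
    | zero => simp
    | tmul a l => rfl
    | add a b ha hb => simp only [map_add, ha, hb]
  have h2 : AlgebraTensorModule.rTensor R L jS (s • z) = 0 := by
    have h3 := hcomp z
    rw [hz, map_zero] at h3
    have h4 : (g ^ k) • (ψ.comp (Algebra.linearMap S T)) = s • jS := LinearMap.ext_ring (by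
      show g ^ k • ψ (algebraMap S T 1) = s • algebraMap S Sg 1
      rw [map_one (algebraMap S T), map_one (algebraMap S Sg), Algebra.smul_def, Algebra.smul_def, mul_one,
        mul_comm]
      exact hs)
    have hsm : ∀ (a : S) (f : S →ₗ[S] Sg) (w : S ⊗[R] L),
        AlgebraTensorModule.rTensor R L (a • f) w = a • AlgebraTensorModule.rTensor R L f w := fun a f w => by
      induction w with
      | zero => simp
      | tmul x y => exact (smul_tmul' a (f x) y).symm
      | add x y hx hy => rw [map_add, map_add, smul_add, hx, hy]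
    rw [map_smul, ← hsm, ← h4, hsm, ← h3, smul_zero]
  obtain ⟨⟨_, n, rfl⟩, hn⟩ := (IsLocalizedModule.eq_zero_iff (Submonoid.powers g)
    (AlgebraTensorModule.rTensor R L jS)).1 h2
  have hn' : g ^ n • s • z = 0 := hn
  have : (g * s) ^ (n + 1) • z = 0 := by
    rw [show (g * s) ^ (n + 1) = g * s ^ n * (g ^ n * s) by ring, mul_smul, mul_smul (g ^ n), hn', smul_zero]
  clear hn' hn h2 hz
  generalize n + 1 = m at this
  induction m with
  | zero => rwa [pow_zero, one_smul] at this
  | succ m ih => exact ih (hgs _ (by rwa [← mul_smul, ← pow_succ']))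

end Groth.Agent.Ega43Sect
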