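import Groth.Agent.ChainConn.Fibration
import Groth.Agent.Ega43Sect.TensorNear
import Mathlib.RingTheory.TensorProduct.Quotient
import Mathlib.RingTheory.TensorProduct.MvPolynomial

/-!
# A hypersurface model with integral fibres near the generic one
-/

set_option autoImplicit false
set_option linter.style.haveILetI false
set_option maxHeartbeats 1600000

universe u

open TensorProduct

namespace Groth.Agent.Ega43Sect

/-- The fibres of a hypersurface defined by an irreducible polynomial are integral. -/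
theorem noZeroDivisors_tensor_hypersurface {A κ σ : Type u} [CommRing A] [Field κ] [Algebra A κ]
    (P : MvPolynomial σ A) (hP : Irreducible (MvPolynomial.map (algebraMap A κ) P)) :
    NoZeroDivisors (κ ⊗[A] (MvPolynomial σ A ⧸ Ideal.span {P})) := by
  let P' := MvPolynomial.map (algebraMap A κ) P
  haveI : (Ideal.span {P'}).IsPrime := (Ideal.span_singleton_prime hP.ne_zero).2 hP.prime
  let Φ : κ ⊗[A] (MvPolynomial σ A ⧸ Ideal.span {P}) →ₐ[κ] MvPolynomial σ κ ⧸ Ideal.span {P'} :=
    Algebra.TensorProduct.lift (Algebra.ofId κ _)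
      (Ideal.Quotient.liftₐ _ (((Ideal.Quotient.mkₐ κ (Ideal.span {P'})).restrictScalars A).comp
        (MvPolynomial.mapAlgHom (Algebra.ofId A κ))) (fun a ha => by
          obtain ⟨c, rfl⟩ := Ideal.mem_span_singleton'.1 ha
          rw [AlgHom.comp_apply, map_mul]
          exact Ideal.Quotient.eq_zero_iff_mem.2 (Ideal.mul_mem_left _ _ (Ideal.subset_span rfl))))
      fun _ _ => Commute.all _ _
  let x : σ → κ ⊗[A] (MvPolynomial σ A ⧸ Ideal.span {P}) := fun i => 1 ⊗ₜ Ideal.Quotient.mk _ (MvPolynomial.X i)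
  have hx : ∀ G : MvPolynomial σ A, MvPolynomial.aeval x (MvPolynomial.map (algebraMap A κ) G) =
      (1 : κ) ⊗ₜ[A] Ideal.Quotient.mk (Ideal.span {P}) G := fun G => by
    rw [MvPolynomial.aeval_map_algebraMap]
    exact congrFun (congrArg DFunLike.coe (MvPolynomial.algHom_ext (f := MvPolynomial.aeval x)
      (g := Algebra.TensorProduct.includeRight.comp (Ideal.Quotient.mkₐ A (Ideal.span {P})))
      fun i => by simp [x])) G
  let Ψ : MvPolynomial σ κ ⧸ Ideal.span {P'} →ₐ[κ] κ ⊗[A] (MvPolynomial σ A ⧸ Ideal.span {P}) :=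
    Ideal.Quotient.liftₐ _ (MvPolynomial.aeval x) fun a ha => by
      obtain ⟨c, rfl⟩ := Ideal.mem_span_singleton'.1 ha
      rw [map_mul, hx, Ideal.Quotient.eq_zero_iff_mem.2 (Ideal.subset_span rfl : P ∈ Ideal.span {P}), tmul_zero]
      exact mul_zero (MvPolynomial.aeval x c)
  have hΨ : ∀ z, Ψ (Φ z) = z := fun z => by
    induction z with
    | zero => simp
    | tmul a q =>
      obtain ⟨G, rfl⟩ := Ideal.Quotient.mk_surjective q
      show Ψ (algebraMap κ _ a * Ideal.Quotient.mk _ (MvPolynomial.map (algebraMap A κ) G)) = _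
      rw [map_mul, AlgHom.commutes]
      show _ * MvPolynomial.aeval x (MvPolynomial.map (algebraMap A κ) G) = _
      rw [hx, Algebra.TensorProduct.algebraMap_apply, Algebra.TensorProduct.tmul_mul_tmul, one_mul, mul_one]
      rfl
    | add a b ha hb => rw [map_add, map_add, ha, hb]
  exact Function.Injective.noZeroDivisors Φ (Function.LeftInverse.injective hΨ) (map_zero _) (map_mul _)

/-- Tensoring a localisation: every element is cleared by a power of the localised element. -/
theorem exists_clear {A Q T κ : Type u} [CommRing A] [CommRing Q] [CommRing T] [Field κ] [Algebra A Q] [Algebra A T]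
    [Algebra A κ] [Algebra Q T] [IsScalarTower A Q T] (h : Q) [IsLocalization.Away h T] (z : κ ⊗[A] T) :
    ∃ (n : ℕ) (w : κ ⊗[A] Q), Algebra.TensorProduct.map (AlgHom.id A κ) (IsScalarTower.toAlgHom A Q T) w =
      z * ((1 : κ) ⊗ₜ[A] (algebraMap Q T h)) ^ n := by
  induction z with
  | zero => exact ⟨0, 0, by simp⟩
  | tmul a t =>
    obtain ⟨n, q, hq⟩ := IsLocalization.Away.surj h t
    refine ⟨n, a ⊗ₜ q, ?_⟩
    rw [Algebra.TensorProduct.map_tmul, Algebra.TensorProduct.tmul_pow, one_pow, Algebra.TensorProduct.tmul_mul_tmul,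
      mul_one, hq]
    rfl
  | add a b ha hb =>
    obtain ⟨n, w, hw⟩ := ha
    obtain ⟨m, v, hv⟩ := hb
    refine ⟨n + m, w * ((1 : κ) ⊗ₜ[A] h) ^ m + v * ((1 : κ) ⊗ₜ[A] h) ^ n, ?_⟩
    rw [map_add, map_mul, map_mul, hw, hv, map_pow, map_pow, Algebra.TensorProduct.map_tmul]
    show a * _ * _ + b * _ * _ = _
    simp only [IsScalarTower.toAlgHom_apply, map_one]
    ring

set_option maxHeartbeats 3200000 in
/-- A hypersurface model of a function field, with integral fibres near the generic one. -/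
theorem exists_hyp_model {A B L Ω : Type u} [CommRing A] [IsDomain A] [CommRing B] [Algebra A B]
    [Algebra.FiniteType A B] [Field Ω] [IsAlgClosed Ω] [Algebra A Ω] [FaithfulSMul A Ω] [Field L] [Algebra Ω L]
    [Algebra A L] [IsScalarTower A Ω L] (θ₀ : B →ₐ[A] L) (hgen : IntermediateField.adjoin Ω (Set.range θ₀) = ⊤) :
    ∃ (A₁ : Subalgebra A Ω) (T : Type u) (_ : CommRing T) (_ : IsDomain T) (_ : Algebra A₁ T)
      (θ : A₁ ⊗[A] B →ₐ[A₁] T) (χ : T →+* L),
      A₁.FG ∧ Algebra.FiniteType A₁ T ∧ Function.Injective χ ∧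
      (∀ a : A₁, χ (algebraMap A₁ T a) = algebraMap Ω L a) ∧ (∀ b : B, χ (θ (1 ⊗ₜ b)) = θ₀ b) ∧
      ∃ f : A₁, f ≠ 0 ∧ ∀ (κ : Type u) [Field κ] [Algebra A₁ κ], algebraMap A₁ κ f ≠ 0 →
        NoZeroDivisors (κ ⊗[A₁] T) := by
  classical
  obtain ⟨gens, hgens⟩ := ‹Algebra.FiniteType A B›
  have hgen' : IntermediateField.adjoin Ω ((gens.image θ₀ : Finset L) : Set L) = ⊤ := by
    refine top_le_iff.1 (hgen.symm.trans_le (IntermediateField.adjoin_le_iff.2 ?_))
    rintro _ ⟨b, rfl⟩
    have hb : θ₀ b ∈ Algebra.adjoin A (θ₀ '' (gens : Set B)) := by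
      rw [← AlgHom.map_adjoin, hgens]
      exact ⟨b, trivial, rfl⟩
    rw [← Finset.coe_image] at hb
    have hle : Algebra.adjoin A ((gens.image θ₀ : Finset L) : Set L) ≤
        (IntermediateField.adjoin Ω ((gens.image θ₀ : Finset L) : Set L)).toSubalgebra.restrictScalars A :=
      Algebra.adjoin_le (IntermediateField.subset_adjoin Ω _)
    exact hle hb
  haveI : Algebra.EssFiniteType Ω L := by
    haveI : Algebra.EssFiniteType Ω (⊤ : IntermediateField Ω L) :=
      IntermediateField.essFiniteType_iff.2 (hgen' ▸ IntermediateField.fg_adjoin_finset _)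
    exact Algebra.EssFiniteType.of_surjective (IntermediateField.topEquiv : (⊤ : IntermediateField Ω L) ≃ₐ[Ω] L).toAlgHom
      IntermediateField.topEquiv.surjective
  obtain ⟨s, hs, hsep⟩ := exists_isTranscendenceBasis_and_isSeparable_of_perfectField Ω L
  let F := IntermediateField.adjoin Ω (s : Set L)
  haveI : Algebra.IsSeparable F L := hsep
  haveI : Algebra.EssFiniteType F L := Algebra.EssFiniteType.of_comp Ω F L
  haveI : FiniteDimensional F L := Algebra.finite_of_essFiniteType_of_isAlgebraic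
  obtain ⟨y₀, hy₀⟩ := Field.exists_primitive_element F L
  let P₀ := MvPolynomial ↥s Ω
  let Φ : P₀ →ₐ[Ω] L := MvPolynomial.aeval ((↑) : ↥s → L)
  have hΦ : Function.Injective Φ := hs.1
  letI : Algebra P₀ L := Φ.toRingHom.toAlgebra
  haveI : FaithfulSMul P₀ L := (faithfulSMul_iff_algebraMap_injective _ _).2 hΦ
  have hΦr : Φ.range = Algebra.adjoin Ω (s : Set L) := by
    refine (Algebra.adjoin_range_eq_range_aeval _ _).symm.trans ?_
    rw [Subtype.range_coe]
  have halg : IsAlgebraic P₀ y₀ := by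
    have h : IsAlgebraic (Algebra.adjoin Ω (Set.range ((↑) : ↥s → L))) y₀ := hs.isAlgebraic.isAlgebraic y₀
    rw [Algebra.adjoin_range_eq_range_aeval] at h
    exact IsAlgebraic.of_ringHom_of_comp_eq (f := Φ.rangeRestrict.toRingHom) (g := RingHom.id L) h
      Φ.rangeRestrict_surjective Function.injective_id (RingHom.ext fun a => rfl)
  obtain ⟨c, hc, hint⟩ := halg.exists_integral_multiple
  let y : L := c • y₀
  let v : Option ↥s → L := fun o => o.elim y (↑)
  have htop : IntermediateField.adjoin Ω (Set.range v) = ⊤ := by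
    have h1 : (s : Set L) ⊆ Set.range v := fun z hz => ⟨some ⟨z, hz⟩, rfl⟩
    have hy₀M : y₀ ∈ IntermediateField.adjoin Ω (Set.range v) := by
      have hcM : Φ c ∈ IntermediateField.adjoin Ω (Set.range v) := by
        refine IntermediateField.algebra_adjoin_le_adjoin Ω _ (Algebra.adjoin_mono h1 ?_)
        rw [← hΦr]
        exact ⟨c, rfl⟩
      have hyM : y ∈ IntermediateField.adjoin Ω (Set.range v) := IntermediateField.subset_adjoin _ _ ⟨none, rfl⟩
      have he : y₀ = y / Φ c := by
        have h0 : Φ c ≠ 0 := fun h => hc (hΦ (h.trans (map_zero Φ).symm))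
        rw [eq_div_iff h0, show y = Φ c * y₀ from Algebra.smul_def c y₀, mul_comm]
      exact he ▸ div_mem hyM hcM
    rw [eq_top_iff, ← IntermediateField.restrictScalars_top (K := Ω) (F := F) (E := L), ← hy₀,
      IntermediateField.adjoin_adjoin_left]
    refine IntermediateField.adjoin_le_iff.2 (Set.union_subset (h1.trans (IntermediateField.subset_adjoin _ _)) ?_)
    exact Set.singleton_subset_iff.2 hy₀M
  have hrep : ∀ g : L, ∃ G H : MvPolynomial (Option ↥s) Ω,
      MvPolynomial.aeval v H ≠ 0 ∧ g * MvPolynomial.aeval v H = MvPolynomial.aeval v G := fun g => by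
    obtain ⟨r, hr, t, ht, rfl⟩ := IntermediateField.mem_adjoin_iff_div.1
      (show g ∈ IntermediateField.adjoin Ω (Set.range v) by rw [htop]; trivial)
    rw [Algebra.adjoin_range_eq_range_aeval] at hr ht
    obtain ⟨G, rfl⟩ := hr
    obtain ⟨H, rfl⟩ := ht
    rcases eq_or_ne (MvPolynomial.aeval v H) 0 with h | h
    · exact ⟨0, 1, by simp, by simp [h]⟩
    · exact ⟨G, H, h, div_mul_cancel₀ _ h⟩
  choose GG HH hHH hGH using hrep
  let P : Polynomial P₀ := minpoly P₀ y
  let Po : MvPolynomial (Option ↥s) Ω := (MvPolynomial.optionEquivLeft Ω ↥s).symm P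
  let SA : Finset Ω := Po.coeffs ∪
    Finset.univ.biUnion fun g : ↥gens => (GG (θ₀ g)).coeffs ∪ (HH (θ₀ g)).coeffs
  let A₁ := Algebra.adjoin A (SA : Set Ω)
  have hdesc : ∀ G : MvPolynomial (Option ↥s) Ω, G.coeffs ⊆ SA →
      ∃ G' : MvPolynomial (Option ↥s) A₁, MvPolynomial.map (algebraMap A₁ Ω) G' = G := fun G hG => by
    refine MvPolynomial.mem_range_map_iff_coeffs_subset.2 fun z hz => ?_
    exact ⟨⟨z, Algebra.subset_adjoin (hG hz)⟩, rfl⟩
  obtain ⟨Po', hPo'⟩ := hdesc Po (fun z hz => Finset.mem_union_left _ hz)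
  have hG' : ∀ g : ↥gens, ∃ G' H' : MvPolynomial (Option ↥s) A₁,
      MvPolynomial.map (algebraMap A₁ Ω) G' = GG (θ₀ g) ∧ MvPolynomial.map (algebraMap A₁ Ω) H' = HH (θ₀ g) := fun g => by
    obtain ⟨G', hG'⟩ := hdesc (GG (θ₀ g)) fun z hz => Finset.mem_union_right _
      (Finset.mem_biUnion.2 ⟨g, Finset.mem_univ _, Finset.mem_union_left _ hz⟩)
    obtain ⟨H', hH'⟩ := hdesc (HH (θ₀ g)) fun z hz => Finset.mem_union_right _
      (Finset.mem_biUnion.2 ⟨g, Finset.mem_univ _, Finset.mem_union_right _ hz⟩)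
    exact ⟨G', H', hG', hH'⟩
  choose G' H' hG' hH' using hG'
  have hμ : Function.Injective (MvPolynomial.map (algebraMap A₁ Ω) : MvPolynomial ↥s A₁ →+* P₀) :=
    MvPolynomial.map_injective _ Subtype.val_injective
  let PA : Polynomial (MvPolynomial ↥s A₁) := MvPolynomial.optionEquivLeft A₁ ↥s Po'
  have hPA : PA.map (MvPolynomial.map (algebraMap A₁ Ω)) = P := by
    rw [← ChainConn.optionEquivLeft_map, hPo', AlgEquiv.apply_symm_apply]
  have hmonic : PA.Monic := Polynomial.monic_of_injective hμ (hPA.symm ▸ minpoly.monic hint)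
  have hev : ∀ W : MvPolynomial (Option ↥s) Ω,
      Polynomial.aeval y (MvPolynomial.optionEquivLeft Ω ↥s W) = MvPolynomial.aeval v W := fun W => by
    induction W using MvPolynomial.induction_on with
    | C a =>
      rw [MvPolynomial.optionEquivLeft_C, Polynomial.aeval_C, MvPolynomial.aeval_C]
      exact MvPolynomial.aeval_C _ a
    | add p q hp hq => rw [map_add, map_add, map_add, hp, hq]
    | mul_X p o hp =>
      rw [map_mul, map_mul, map_mul, hp]
      congr 1
      cases o with
      | none => rw [MvPolynomial.optionEquivLeft_X_none, Polynomial.aeval_X, MvPolynomial.aeval_X]; rfl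
      | some i =>
        rw [MvPolynomial.optionEquivLeft_X_some, Polynomial.aeval_C, MvPolynomial.aeval_X]
        exact MvPolynomial.aeval_X _ i
  have hPv : MvPolynomial.aeval v Po = 0 := by rw [← hev, AlgEquiv.apply_symm_apply]; exact minpoly.aeval _ _
  haveI : IsScalarTower A₁ Ω L := IsScalarTower.of_algebraMap_eq fun _ => rfl
  obtain ⟨Q, _, _, χQ, π, hQft, hχQ, hχQm, hQfib⟩ : ∃ (Q : Type u) (_ : CommRing Q) (_ : Algebra A₁ Q)
      (χQ : Q →ₐ[A₁] L) (π : MvPolynomial (Option ↥s) A₁ →ₐ[A₁] Q), Algebra.FiniteType A₁ Q ∧ Function.Injective χQ ∧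
      (∀ G, χQ (π G) = MvPolynomial.aeval v (MvPolynomial.map (algebraMap A₁ Ω) G)) ∧
      ∀ (κ : Type u) [Field κ] [Algebra A₁ κ], Irreducible (MvPolynomial.map (algebraMap A₁ κ) Po') →
        NoZeroDivisors (κ ⊗[A₁] Q) := by
    let χQ : (MvPolynomial (Option ↥s) A₁ ⧸ Ideal.span {Po'}) →ₐ[A₁] L :=
      Ideal.Quotient.liftₐ _ (MvPolynomial.aeval v) fun a ha => by
        obtain ⟨d, rfl⟩ := Ideal.mem_span_singleton'.1 ha
        rw [map_mul, ← MvPolynomial.aeval_map_algebraMap Ω v Po', hPo', hPv, mul_zero]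
    have hm : ∀ G, χQ (Ideal.Quotient.mk _ G) = MvPolynomial.aeval v (MvPolynomial.map (algebraMap A₁ Ω) G) :=
      fun G => (MvPolynomial.aeval_map_algebraMap Ω v G).symm
    refine ⟨_, inferInstance, inferInstance, χQ, Ideal.Quotient.mkₐ A₁ _, inferInstance, ?_, hm,
      fun κ _ _ h => noZeroDivisors_tensor_hypersurface Po' h⟩
    rw [injective_iff_map_eq_zero]
    intro z hz
    obtain ⟨G, rfl⟩ := Ideal.Quotient.mk_surjective z
    rw [hm, ← hev, ChainConn.optionEquivLeft_map] at hz
    refine Ideal.Quotient.eq_zero_iff_mem.2 (Ideal.mem_span_singleton.2 ?_)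
    rw [← map_dvd_iff (MvPolynomial.optionEquivLeft A₁ ↥s)]
    refine (Polynomial.modByMonic_eq_zero_iff_dvd hmonic).1 (Polynomial.map_injective _ hμ ?_)
    rw [Polynomial.map_modByMonic _ hmonic, hPA, Polynomial.map_zero,
      Polynomial.modByMonic_eq_zero_iff_dvd (minpoly.monic hint)]
    haveI : IsIntegrallyClosed P₀ := UniqueFactorizationMonoid.instIsIntegrallyClosed
    exact minpoly.isIntegrallyClosed_dvd hint hz
  haveI : IsDomain Q := hχQ.isDomain χQ.toRingHom
  haveI := hQft
  let hq : Q := ∏ g : ↥gens, π (H' g)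
  have hHne : ∀ g, χQ (π (H' g)) ≠ 0 := fun g => by rw [hχQm, hH']; exact hHH _
  have hq0 : hq ≠ 0 := Finset.prod_ne_zero_iff.2 fun g _ h => hHne g (by rw [h, map_zero])
  let T := Localization.Away hq
  have hle : Submonoid.powers hq ≤ nonZeroDivisors Q := powers_le_nonZeroDivisors_of_noZeroDivisors hq0
  haveI : IsDomain T := IsLocalization.isDomain_localization hle
  haveI : Algebra.FiniteType Q T := IsLocalization.finiteType_of_monoid_fg (Submonoid.powers hq) T
  haveI : Algebra.FiniteType A₁ T := Algebra.FiniteType.trans (R := A₁) (S := Q) inferInstance inferInstance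
  let χT₀ : T →+* L := IsLocalization.Away.lift hq (g := χQ.toRingHom)
    (Ne.isUnit fun h => hq0 (hχQ (h.trans (map_zero χQ).symm)))
  have hT0 : ∀ z, χT₀ (algebraMap Q T z) = χQ z := fun z => IsLocalization.Away.lift_eq hq _ z
  let χT : T →ₐ[A₁] L :=
    { χT₀ with
      commutes' := fun a => by
        show χT₀ (algebraMap A₁ T a) = _
        rw [IsScalarTower.algebraMap_apply A₁ Q T, hT0, AlgHom.commutes] }
  have hχT : Function.Injective χT := by
    show Function.Injective χT₀
    refine (injective_iff_map_eq_zero _).2 fun z hz => ?_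
    obtain ⟨n, q, hn⟩ := IsLocalization.Away.surj hq z
    have h0 : q = 0 := hχQ (by rw [← hT0, ← hn, map_mul, hz, zero_mul, map_zero])
    rw [h0, map_zero] at hn
    exact ((IsLocalization.Away.algebraMap_isUnit hq).pow n).mul_left_eq_zero.1 hn
  have hrange : ∀ b : B, θ₀ b ∈ χT.range := by
    have h : Algebra.adjoin A (gens : Set B) ≤ (χT.range.restrictScalars A).comap θ₀ := by
      refine Algebra.adjoin_le fun g hg => ?_
      let G : ↥gens := ⟨g, hg⟩
      refine ⟨algebraMap Q T (π (G' G) * ∏ g' ∈ Finset.univ.erase G,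
        π (H' g')) * IsLocalization.Away.invSelf hq, ?_⟩
      show χT₀ _ = θ₀ g
      have hinv : χT₀ (IsLocalization.Away.invSelf (S := T) hq) * χQ hq = 1 := by
        rw [← hT0, ← map_mul, mul_comm, IsLocalization.Away.mul_invSelf, map_one]
      have hq' : hq = π (H' G) * ∏ g' ∈ Finset.univ.erase G, π (H' g') :=
        (Finset.mul_prod_erase _ _ (Finset.mem_univ G)).symm
      have hg' : χQ (π (G' G)) = θ₀ g * χQ (π (H' G)) := by
        rw [hχQm, hχQm, hG', hH', hGH]
      rw [map_mul χT₀, hT0, map_mul χQ, hg', mul_assoc (θ₀ g), ← map_mul χQ, ← hq', mul_assoc,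
        mul_comm (χQ hq), hinv, mul_one]
    intro b
    exact h (hgens.symm ▸ trivial)
  haveI : IsScalarTower A A₁ L := IsScalarTower.of_algebraMap_eq fun a =>
    (IsScalarTower.algebraMap_apply A Ω L a)
  let θL : A₁ ⊗[A] B →ₐ[A₁] L := Algebra.TensorProduct.lift (Algebra.ofId A₁ L) θ₀ fun _ _ => Commute.all _ _
  have hθL : ∀ z, θL z ∈ χT.range := fun z => by
    induction z with
    | zero => rw [map_zero]; exact zero_mem _
    | tmul a b =>
      rw [Algebra.TensorProduct.lift_tmul]
      exact mul_mem (χT.range.algebraMap_mem a) (hrange b)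
    | add a b ha hb => rw [map_add]; exact add_mem ha hb
  let e := AlgEquiv.ofInjective χT hχT
  let θ : A₁ ⊗[A] B →ₐ[A₁] T := e.symm.toAlgHom.comp (θL.codRestrict χT.range hθL)
  refine ⟨A₁, T, inferInstance, inferInstance, inferInstance, θ, χT₀, Subalgebra.fg_adjoin_finset _, inferInstance,
    hχT, fun a => χT.commutes a, fun b => ?_, ?_⟩
  · have h := congrArg Subtype.val (e.apply_symm_apply ((θL.codRestrict χT.range hθL) (1 ⊗ₜ b)))
    refine Eq.trans h ?_
    show θL (1 ⊗ₜ b) = _
    rw [Algebra.TensorProduct.lift_tmul, map_one, one_mul]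
  -- the fibres
  haveI : FaithfulSMul A₁ Ω := (faithfulSMul_iff_algebraMap_injective _ _).2 Subtype.val_injective
  have hirr : Irreducible (MvPolynomial.map (algebraMap A₁ Ω) Po') := by
    rw [hPo']
    exact (MulEquiv.irreducible_iff (MvPolynomial.optionEquivLeft Ω ↥s).symm.toRingEquiv.toMulEquiv).2
      (minpoly.irreducible hint)
  obtain ⟨f, hf, hspec⟩ := ChainConn.exists_ne_zero_irreducible_map Po' Ω hirr
  have hinjA : Function.Injective (algebraMap A₁ Q) := fun a b h => Subtype.ext ((algebraMap Ω L).injective (by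
    have := congrArg χQ h
    rwa [AlgHom.commutes, AlgHom.commutes] at this))
  obtain ⟨d, hd, hdinj⟩ := exists_injective_near (R := A₁) (S := Q) (T := T) (IsLocalization.injective T hle) hinjA
  refine ⟨f * d, mul_ne_zero hf hd, fun κ _ _ hκ => ?_⟩
  rw [map_mul] at hκ
  haveI := hQfib κ (hspec κ (algebraMap A₁ κ) (left_ne_zero_of_mul hκ))
  let j := Algebra.TensorProduct.map (AlgHom.id A₁ κ) (IsScalarTower.toAlgHom A₁ Q T)
  have hj : Function.Injective j := by
    have hc : ∀ w, j w = Algebra.TensorProduct.comm A₁ T κ (Algebra.TensorProduct.map (IsScalarTower.toAlgHom A₁ Q T)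
        (AlgHom.id A₁ κ) (Algebra.TensorProduct.comm A₁ κ Q w)) := fun w => by
      induction w with
      | zero => simp
      | tmul a q => rfl
      | add a b ha hb => simp only [map_add, ha, hb]
    intro a b h
    rw [hc, hc] at h
    exact (Algebra.TensorProduct.comm A₁ κ Q).injective
      (hdinj κ (right_ne_zero_of_mul hκ) ((Algebra.TensorProduct.comm A₁ T κ).injective h))
  have hu : IsUnit ((1 : κ) ⊗ₜ[A₁] (algebraMap Q T hq)) :=
    (IsLocalization.Away.algebraMap_isUnit hq).map
      (Algebra.TensorProduct.includeRight : T →ₐ[A₁] κ ⊗[A₁] T)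
  refine ⟨fun {a b} hab => ?_⟩
  obtain ⟨n, w, hw⟩ := exists_clear (κ := κ) hq a
  obtain ⟨m, v', hv⟩ := exists_clear (κ := κ) hq b
  have hz : w * v' = 0 := hj (by rw [map_mul, hw, hv, mul_mul_mul_comm, hab, zero_mul, map_zero])
  rcases mul_eq_zero.1 hz with h | h
  · rw [h, map_zero] at hw
    exact Or.inl ((hu.pow n).mul_left_eq_zero.1 hw.symm)
  · rw [h, map_zero] at hv
    exact Or.inr ((hu.pow m).mul_left_eq_zero.1 hv.symm)

end Groth.Agent.Ega43Sect
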