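import Groth.Agent.S0420
import Groth.Agent.S1324
import Groth.Agent.GeomConn5.Point
import Groth.Agent.FlatMisc.ComponentsNear
import Groth.Agent.H23.RedSub
import Groth.Agent.SGAQuot20.Field
import Groth.Prelude.Def_MoreMor

/-!
# The union of the section components is clopen near a generic point
-/

set_option autoImplicit false
set_option linter.style.haveILetI false

universe u

open AlgebraicGeometry CategoryTheory CategoryTheory.Limits TopologicalSpace Topology

namespace Groth.Agent.Ega43Sect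

/-- A connected scheme over a field with a rational point is geometrically connected. -/
theorem geometricallyConnected_of_section {k : Type u} [Field k] {Z : Scheme.{u}} (g : Z ⟶ Spec (CommRingCat.of k))
    [ConnectedSpace Z] (σ : Spec (CommRingCat.of k) ⟶ Z) (hσ : σ ≫ g = 𝟙 _) : GeometricallyConnected g := by
  letI : Z.Over (Spec (CommRingCat.of k)) := ⟨g⟩
  obtain ⟨⟨x, ψ⟩, rfl⟩ := (Scheme.SpecToEquivOfField _ _).symm.surjective σ
  simp only [Scheme.SpecToEquivOfField, Equiv.coe_fn_symm_mk] at hσ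
  have h := GeomConn5.spec_resMap (k := k) x
  rw [show (Z ↘ Spec (CommRingCat.of k)) = g from rfl] at h
  rw [Category.assoc, h, ← Spec.map_comp, ← Spec.map_id] at hσ
  have h2 : ∀ a : k, ψ.hom (Curv2.resMap k Z x a) = a := fun a => congr($(Spec.map_injective hσ).hom a)
  exact GeomField.geometricallyConnected_of_point x fun a _ =>
    ⟨ψ.hom a, ψ.hom.injective (h2 (ψ.hom a))⟩

/-- Over an integral base the union of the section components is clopen over a nonempty open. -/
theorem exists_clopen_near {X Y : Scheme.{u}} [IsIntegral Y] (f : X ⟶ Y) [LocallyOfFiniteType f] [QuasiCompact f]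
    (s : Y ⟶ X) (hs : s ≫ f = 𝟙 Y) :
    ∃ V : Y.Opens, genericPoint ↥Y ∈ V ∧
      IsClopen (Subtype.val ⁻¹' MoreMor.sectionComponents f s : Set ↑(f.base ⁻¹' (V : Set ↥Y))) := by
  let η := genericPoint ↥Y
  have hsη : ∀ y, f.base (s.base y) = y := fun y => congrArg (fun m => m.base y) hs
  let C := connectedComponentIn (f.base ⁻¹' {η}) (s.base η)
  let D := f.base ⁻¹' {η} \ C
  haveI : CompactSpace ↥(f.fiber η) := inferInstance
  haveI : IsLocallyNoetherian (f.fiber η) := LocallyOfFiniteType.isLocallyNoetherian (f.fiberToSpecResidueField η)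
  haveI : IsNoetherian (f.fiber η) := ⟨⟩
  haveI : LocallyConnectedSpace ↥(f.fiber η) := SGAQuot20.locallyConnectedSpace _
  let e := f.fiberι η
  have he : Topology.IsEmbedding e.base := e.isEmbedding
  have hrange : Set.range e.base = f.base ⁻¹' {η} := f.range_fiberι η
  let p : ↥(f.fiber η) := f.fiberHomeo η |>.symm ⟨s.base η, hsη η⟩
  have hp : e.base p = s.base η := f.fiberι_fiberHomeo_symm η _
  have hC : C = e.base '' connectedComponent p := by
    let q : ↑(f.base ⁻¹' {η}) := ⟨s.base η, hsη η⟩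
    have h1 : C = Subtype.val '' connectedComponent q := connectedComponentIn_eq_image (show s.base η ∈ f.base ⁻¹' {η} from hsη η)
    have h2 : (f.fiberHomeo η) '' connectedComponent p = connectedComponent q := by
      have := (f.fiberHomeo η).image_connectedComponentIn (Set.mem_univ p)
      rwa [Set.image_univ, (f.fiberHomeo η).surjective.range_eq, connectedComponentIn_univ, connectedComponentIn_univ,
        show (f.fiberHomeo η) p = q from (f.fiberHomeo η).apply_symm_apply q] at this
    rw [h1, ← h2, Set.image_image]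
    rfl
  have hD : D = e.base '' (connectedComponent p)ᶜ := by
    show f.base ⁻¹' {η} \ C = _
    rw [hC, ← hrange, Set.compl_eq_univ_sdiff, Set.image_sdiff he.injective, Set.image_univ]
  have hrel : ∀ S : Set ↥(f.fiber η), IsClosed S →
      ∀ x ∈ closure (e.base '' S), f.base x = η → x ∈ e.base '' S := fun S hS x hx hfx => by
    obtain ⟨w, rfl⟩ : x ∈ Set.range e.base := hrange.ge hfx
    exact ⟨w, hS.closure_eq.le (he.isInducing.closure_eq_preimage_closure_image S ▸ hx), rfl⟩
  -- near `η` the two pieces are disjoint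
  obtain ⟨V1, hV1, h1⟩ := FlatMisc.ComponentsNear.exists_open_disjoint f
    (T := closure C ∩ closure D) (isClosed_closure.inter isClosed_closure) (fun x hx hfx => by
      rw [hC, hD] at hx
      obtain ⟨a, ha, rfl⟩ := hrel _ isClosed_connectedComponent x hx.1 hfx
      obtain ⟨b, hb, hab⟩ := hrel _ isOpen_connectedComponent.isClosed_compl _ hx.2 hfx
      exact hb (he.injective hab ▸ ha))
  -- and they cover
  obtain ⟨V2, hV2, h2⟩ := FlatMisc.GenerizeNear.exists_open f
  -- the component is connected in the fibres near `η`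
  obtain ⟨Z₀, j, hj, hred, hr⟩ :=
    H23.RedSub.exists_reduced_subscheme X (isClosed_closure (s := C)).isLocallyClosed
  haveI := hj
  haveI : IsClosedImmersion j := IsClosedImmersion.of_isPreimmersion j (by rw [hr]; exact isClosed_closure)
  have hsC : Set.range s.base ⊆ closure C := by
    rintro _ ⟨y, rfl⟩
    exact closure_mono (show ({s.base η} : Set ↥X) ⊆ C from
      Set.singleton_subset_iff.2 (mem_connectedComponentIn (hsη η)))
      ((genericPoint_specializes y).map s.continuous |>.mem_closure)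
  obtain ⟨s₀, hs₀⟩ := H23.RedSub.exists_lift s j (hr ▸ hsC)
  let f₀ := j ≫ f
  have hf₀ : s₀ ≫ f₀ = 𝟙 Y := by rw [reassoc_of% hs₀, hs]
  have hfib : ∀ y, j.base '' (f₀.base ⁻¹' {y}) = closure C ∩ f.base ⁻¹' {y} := fun y => by
    rw [← hr]
    exact Set.image_preimage_eq_range_inter (f := j.base) (t := f.base ⁻¹' {y})
  have hCcl : closure C ∩ f.base ⁻¹' {η} = C := by
    refine Set.Subset.antisymm ?_ fun x hx => ⟨subset_closure hx, connectedComponentIn_subset _ _ hx⟩
    rintro x ⟨hx, hfx⟩
    rw [hC] at hx ⊢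
    exact hrel _ isClosed_connectedComponent x hx hfx
  haveI : ConnectedSpace ↥(f₀.fiber η) := by
    have h : _root_.IsConnected (f₀.base ⁻¹' {η}) := by
      have h' : _root_.IsConnected (j.base '' (f₀.base ⁻¹' {η})) := by
        rw [hfib, hCcl]
        exact isConnected_connectedComponentIn_iff.2 (hsη η)
      exact ⟨h'.nonempty.of_image, (j.isEmbedding.isInducing.isPreconnected_image).1 h'.isPreconnected⟩
    haveI := Subtype.connectedSpace h
    exact (f₀.fiberHomeo η).symm.surjective.connectedSpace (f₀.fiberHomeo η).symm.continuous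
  obtain ⟨V3, hV3, hV3'⟩ := S0420.result f₀ (geometricallyConnected_of_section (f₀.fiberToSpecResidueField η)
    (pullback.lift (Y.fromSpecResidueField η ≫ s₀) (𝟙 _) (by
      rw [Category.assoc, hf₀, Category.comp_id]; exact (Category.id_comp _).symm)) (pullback.lift_snd _ _ _))
  have hconn : ∀ y ∈ V3, _root_.IsConnected (closure C ∩ f.base ⁻¹' {y}) := fun y hy => by
    haveI := hV3'
    have h : _root_.IsConnected ((f₀ ∣_ V3).base ⁻¹' {(⟨y, hy⟩ : ↥V3)}) :=
      Scheme.Hom.isConnected_preimage_singleton _ _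
    have h' : _root_.IsConnected (f₀.base ⁻¹' {y}) := by
      have : f₀.base ⁻¹' {y} = (f₀ ⁻¹ᵁ V3).ι.base '' ((f₀ ∣_ V3).base ⁻¹' {(⟨y, hy⟩ : ↥V3)}) := by
        ext z
        constructor
        · intro hz
          have hzV : z ∈ f₀ ⁻¹ᵁ V3 := show f₀.base z ∈ V3 by rw [hz]; exact hy
          refine ⟨⟨z, hzV⟩, ?_, rfl⟩
          exact Subtype.ext ((congrArg (fun m : (↑(f₀ ⁻¹ᵁ V3) : Scheme.{u}) ⟶ Y => m.base (⟨z, hzV⟩ : ↥(f₀ ⁻¹ᵁ V3))) (morphismRestrict_ι f₀ V3)).trans hz)
        · rintro ⟨w, hw, rfl⟩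
          exact (congrArg (fun m : (↑(f₀ ⁻¹ᵁ V3) : Scheme.{u}) ⟶ Y => m.base w) (morphismRestrict_ι f₀ V3)).symm.trans
            (congrArg Subtype.val (hw : (f₀ ∣_ V3).base w = ⟨y, hy⟩))
      rw [this]
      exact h.image _ (f₀ ⁻¹ᵁ V3).ι.continuous.continuousOn
    rw [← hfib]
    exact h'.image _ j.continuous.continuousOn
  refine ⟨V1 ⊓ V2 ⊓ V3, ⟨⟨?_, ?_⟩, ?_⟩, ?_⟩
  · exact ((genericPoint_spec ↥Y).mem_open_set_iff V1.isOpen).2 (by rw [Set.univ_inter]; exact hV1)
  · exact ((genericPoint_spec ↥Y).mem_open_set_iff V2.isOpen).2 (by rw [Set.univ_inter]; exact hV2)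
  · exact ((genericPoint_spec ↥Y).mem_open_set_iff V3.isOpen).2 (by rw [Set.univ_inter]; exact hV3)
  have hcov : ∀ x : X, f.base x ∈ V2 → x ∈ closure C ∪ closure D := fun x hx => by
    obtain ⟨z, hzx, hz⟩ := h2 x hx
    by_cases hzC : z ∈ C
    · exact Or.inl (hzx.mem_closed isClosed_closure (subset_closure hzC))
    · exact Or.inr (hzx.mem_closed isClosed_closure (subset_closure ⟨hz, hzC⟩))
  have heq : (Subtype.val ⁻¹' MoreMor.sectionComponents f s :
      Set ↑(f.base ⁻¹' ((V1 ⊓ V2 ⊓ V3 : Y.Opens) : Set ↥Y))) = Subtype.val ⁻¹' closure C := by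
    ext ⟨x, hx⟩
    obtain ⟨⟨hx1, hx2⟩, hx3⟩ := hx
    show x ∈ connectedComponentIn (f.base ⁻¹' {f.base x}) (s.base (f.base x)) ↔ x ∈ closure C
    constructor
    · intro h
      have hsub : f.base ⁻¹' {f.base x} ⊆ closure C ∪ closure D := fun w hw => hcov w (by
        rw [Set.mem_preimage, Set.mem_singleton_iff] at hw
        rw [hw]
        exact hx2)
      have hK := isPreconnected_connectedComponentIn (F := f.base ⁻¹' {f.base x}) (x := s.base (f.base x))
      rcases (hcov x hx2) with h' | h'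
      · exact h'
      · obtain ⟨w, hw, hwC, hwD⟩ := (isPreconnected_closed_iff.1 hK) _ _ isClosed_closure isClosed_closure
          ((connectedComponentIn_subset _ _).trans hsub)
          ⟨_, mem_connectedComponentIn (hsη (f.base x)), hsC ⟨_, rfl⟩⟩ ⟨x, h, h'⟩
        have hfw : w ∈ f.base ⁻¹' {f.base x} := connectedComponentIn_subset _ _ hw
        exact absurd (show f.base w ∈ V1 by rw [show f.base w = f.base x from hfw]; exact hx1) (h1 w ⟨hwC, hwD⟩)
    · intro h
      exact (hconn _ hx3).isPreconnected.subset_connectedComponentIn ⟨hsC ⟨_, rfl⟩, hsη _⟩ Set.inter_subset_right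
        ⟨h, rfl⟩
  rw [heq]
  refine ⟨isClosed_closure.preimage continuous_subtype_val, ?_⟩
  have : (Subtype.val ⁻¹' closure C : Set ↑(f.base ⁻¹' ((V1 ⊓ V2 ⊓ V3 : Y.Opens) : Set ↥Y))) =
      (Subtype.val ⁻¹' closure D)ᶜ := by
    ext ⟨x, ⟨hx1, hx2⟩, hx3⟩
    exact ⟨fun hC hD => h1 x ⟨hC, hD⟩ hx1, fun hD => (hcov x hx2).resolve_right hD⟩
  rw [this]
  exact (isClosed_closure.preimage continuous_subtype_val).isOpen_compl

/-- A reduced irreducible closed subscheme with the closure of a point as underlying set. -/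
theorem exists_clopen_in_closure {X Y : Scheme.{u}} (f : X ⟶ Y) (s : Y ⟶ X) (hs : s ≫ f = 𝟙 Y)
    [LocallyOfFiniteType f] [QuasiCompact f] (y : Y) :
    ∃ V : Set ↑Y, V ⊆ closure {y} ∧ y ∈ V ∧ IsOpen (Subtype.val ⁻¹' V : Set ↑(closure ({y} : Set ↑Y))) ∧
      IsClopen (Subtype.val ⁻¹' MoreMor.sectionComponents f s : Set ↑(f ⁻¹' V)) := by
  obtain ⟨W, j, hj, hred, hr⟩ :=
    H23.RedSub.exists_reduced_subscheme Y (isClosed_closure (s := ({y} : Set ↥Y))).isLocallyClosed
  haveI := hj
  haveI : IsClosedImmersion j := IsClosedImmersion.of_isPreimmersion j (by rw [hr]; exact isClosed_closure)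
  haveI : IrreducibleSpace ↥W := (Ega43Sect.isIrreducible_range_iff j.isEmbedding.isInducing).1
    (by rw [hr]; exact isIrreducible_singleton.closure)
  haveI : IsIntegral W := isIntegral_of_irreducibleSpace_of_isReduced W
  let g' := pullback.fst f j
  let f' := pullback.snd f j
  let s' : W ⟶ pullback f j :=
    pullback.lift (j ≫ s) (𝟙 W) (by rw [Category.assoc, hs, Category.comp_id, Category.id_comp])
  have hsc := S1324.result f s hs f' g' j (IsPullback.of_hasPullback f j) s' (pullback.lift_snd _ _ _)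
    (pullback.lift_fst _ _ _)
  obtain ⟨V', hV', hcl⟩ := exists_clopen_near f' s' (pullback.lift_snd _ _ _)
  refine ⟨j.base '' (V' : Set ↥W), ?_, ?_, ?_, ?_⟩
  · exact (Set.image_subset_range _ _).trans hr.le
  · obtain ⟨w, hw⟩ := hr.ge (subset_closure (Set.mem_singleton y))
    refine ⟨w, ?_, hw⟩
    have hspec : w ⤳ genericPoint ↥W := by
      refine j.isEmbedding.isInducing.specializes_iff.1 ?_
      rw [hw]
      exact specializes_iff_mem_closure.2 (hr.le ⟨_, rfl⟩)
    exact hspec.mem_open V'.isOpen hV'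
  · let e : ↥W ≃ₜ ↑(closure ({y} : Set ↥Y)) := j.isEmbedding.toHomeomorph.trans (Homeomorph.setCongr hr)
    have : (Subtype.val ⁻¹' (j.base '' (V' : Set ↥W)) : Set ↑(closure ({y} : Set ↥Y))) = e '' (V' : Set ↥W) := by
      ext ⟨z, hz⟩
      exact ⟨fun ⟨w, hw, hwz⟩ => ⟨w, hw, Subtype.ext hwz⟩, fun ⟨w, hw, hwz⟩ => ⟨w, hw, congrArg Subtype.val hwz⟩⟩
    rw [this]
    exact e.isOpenMap _ V'.isOpen
  · have hi : g'.base '' (f'.base ⁻¹' (V' : Set ↥W)) = f.base ⁻¹' (j.base '' (V' : Set ↥W)) := by
      ext x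
      constructor
      · rintro ⟨z, hz, rfl⟩
        exact ⟨f'.base z, hz, (congrArg (fun m : pullback f j ⟶ Y => m.base z) pullback.condition).symm⟩
      · rintro ⟨w, hw, hwx⟩
        obtain ⟨z, hz1, hz2⟩ := Scheme.Pullback.exists_preimage_pullback (f := f) (g := j) x w hwx.symm
        exact ⟨z, show f'.base z ∈ V' from hz2 ▸ hw, hz1⟩
    let e : ↑(f'.base ⁻¹' (V' : Set ↥W)) ≃ₜ ↑(f.base ⁻¹' (j.base '' (V' : Set ↥W))) :=
      (g'.isEmbedding.homeomorphImage _).trans (Homeomorph.setCongr hi)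
    have : (Subtype.val ⁻¹' MoreMor.sectionComponents f s : Set ↑(f.base ⁻¹' (j.base '' (V' : Set ↥W)))) =
        e.symm ⁻¹' (Subtype.val ⁻¹' MoreMor.sectionComponents f' s') := by
      rw [hsc]
      ext z
      show (z.1 ∈ MoreMor.sectionComponents f s) ↔ (g'.base (e.symm z).1 ∈ MoreMor.sectionComponents f s)
      rw [show g'.base (e.symm z).1 = (e (e.symm z)).1 from rfl, e.apply_symm_apply]
    rw [this]
    exact hcl.preimage e.symm.continuous

end Groth.Agent.Ega43Sect
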